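import Groth.Agent.EtModW45.LimFun

/-!
Kernels and cokernels of morphisms of adic pro-etale sheaves.
-/

set_option autoImplicit false
set_option backward.isDefEq.respectTransparency.types false
universe u

open CategoryTheory CategoryTheory.Limits AlgebraicGeometry Opposite ARSys Groth.Agent.AR46

namespace Groth.Agent.EtModW45

variable {Λ : Type (u + 1)} [CommRing Λ] [IsNoetherianRing Λ] {X : Scheme.{u}} [ProEtS.EpsCont X]

/-- An adic pro-etale sheaf. -/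
def AdicP (I : Ideal Λ) (F : EtModW.ModP Λ X) : Prop :=
  ∃ (Q : ℕᵒᵖ ⥤ EtModW.ModP Λ X) (p : (Functor.const ℕᵒᵖ).obj F ⟶ Q),
    (∀ n : ℕ, IsQuot (I ^ (n + 1)) (p.app (op n))) ∧
    (∀ n : ℕ, ∃ E : EtModW.Mod Λ X, EtModW.IsConstructible Λ E ∧
      Nonempty ((EtModW.epsPullMod Λ X).obj E ≅ Q.obj (op n))) ∧
    IsIso (limit.lift Q (Cone.mk F p))

variable {I : Ideal Λ}

theorem AdicP.exists_system {F : EtModW.ModP Λ X} (h : AdicP I F) :
    ∃ G : PS (EtModW.Mod Λ X), IsAdic I G ∧ (∀ n : ℕ, EtModW.IsConstructible Λ (G.obj (op n))) ∧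
      Nonempty ((limFun Λ X).obj G ≅ F) :=
  (isAdicP_iff (IsNoetherian.noetherian I) F).1 h

theorem adicP_of_iso {F : EtModW.ModP Λ X} {P : PS (EtModW.Mod Λ X)} (e : (limFun Λ X).obj P ≅ F)
    (h : ∃ (Y : PS (EtModW.Mod Λ X)) (v : Y ⟶ P),
      IsAdic I Y ∧ (∀ n : ℕ, EtModW.IsConstructible Λ (Y.obj (op n))) ∧ IsARIso v) : AdicP I F := by
  obtain ⟨Y, v, hY, hYc, hv⟩ := h
  have := isIso_limFun_map (X := X) hv
  exact (isAdicP_iff (IsNoetherian.noetherian I) F).2 ⟨Y, hY, hYc, ⟨asIso ((limFun Λ X).map v) ≪≫ e⟩⟩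

/-- A morphism of limits of adic systems comes from a morphism of systems. -/
theorem exists_map_eq {A B : PS (EtModW.Mod Λ X)} (hA : IsAdic I A) (hB : IsAdic I B)
    (w : (limFun Λ X).obj A ⟶ (limFun Λ X).obj B) : ∃ t : A ⟶ B, (limFun Λ X).map t = w := by
  obtain ⟨t, ht⟩ := (limEps_full (X := X) (IsNoetherian.noetherian I)).map_surjective
    (X := ⟨A, hA⟩) (Y := ⟨B, hB⟩) w
  exact ⟨t.hom, ht⟩

omit [IsNoetherianRing Λ] in
theorem AdicP.of_iso {F F' : EtModW.ModP Λ X} (h : AdicP I F) (e : F ≅ F') : AdicP I F' := by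
  obtain ⟨Q, p, hQ, hc, hl⟩ := h
  refine ⟨Q, (Functor.const ℕᵒᵖ).map e.inv ≫ p, fun n => ?_, hc, ?_⟩
  · obtain ⟨hk, hf⟩ := hQ n
    refine ⟨hk, fun Y φ hφ => ?_⟩
    obtain ⟨ψ, hψ, hu⟩ := hf Y (e.hom ≫ φ) fun a ha => by rw [← Linear.comp_smul, hφ a ha, comp_zero]
    refine ⟨ψ, (cancel_epi e.hom).1 ?_, fun ψ' hψ' => hu ψ' ?_⟩
    · rw [← hψ]
      exact (congrArg (CategoryStruct.comp _) (Category.assoc _ _ _)).trans (Iso.hom_inv_id_assoc _ _)
    · rw [← hψ']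
      exact ((congrArg (CategoryStruct.comp _) (Category.assoc _ _ _)).trans (Iso.hom_inv_id_assoc _ _)).symm
  · rw [show limit.lift Q (Cone.mk F' _) = e.inv ≫ limit.lift Q (Cone.mk F p) from limit.hom_ext fun j =>
      (limit.lift_π _ _).trans ((Category.assoc _ _ _).trans (congrArg (e.inv ≫ ·) (limit.lift_π _ _))).symm]
    infer_instance

/-- Kernels and cokernels of morphisms of adic pro-etale sheaves are adic. -/
theorem adicP_kernel_cokernel [IsNoetherian X] {F G : EtModW.ModP Λ X} (hF : AdicP I F) (hG : AdicP I G)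
    (w : F ⟶ G) : AdicP I (kernel w) ∧ AdicP I (cokernel w) := by
  obtain ⟨A, hA, hAc, ⟨a⟩⟩ := hF.exists_system
  obtain ⟨B, hB, hBc, ⟨b⟩⟩ := hG.exists_system
  obtain ⟨t, ht⟩ := exists_map_eq hA hB (a.hom ≫ w ≫ b.inv)
  obtain ⟨⟨-, hK⟩, ⟨-, hC⟩⟩ := EtModAR45.arAdic_kernel_cokernel hA hB hAc hBc t
  have hlA : SectLift (X := X) A := fun hW => exists_sect_lift (I := I) ⟨A, 𝟙 A, hA, isARIso_of_isIso _⟩ hW
  have hlK : SectLift (X := X) (kernel t) := fun hW =>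
    exists_sect_lift (I := I) (let ⟨Y, v, hY, _, hv⟩ := hK; ⟨Y, v, hY, hv⟩) hW
  have : IsIso (cokernelComparison t (limFun Λ X)) :=
    isIso_cokernelComparison_limFun t hlK (hlA.of_epi (Abelian.factorThruImage t))
  refine ⟨adicP_of_iso (PreservesKernel.iso (limFun Λ X) t ≪≫
      kernel.mapIso ((limFun Λ X).map t) w a b (by rw [ht]; simp)) hK,
    adicP_of_iso ((asIso (cokernelComparison t (limFun Λ X))).symm ≪≫
      cokernel.mapIso ((limFun Λ X).map t) w a b (by rw [ht]; simp)) hC⟩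

end Groth.Agent.EtModW45
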