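import Groth.Agent.EtModW45.AdicAbelian
import Groth.Agent.EtModAR45.ChainStat

/-!
Increasing chains of adic subsheaves of an adic pro-etale sheaf are stationary.
-/

set_option autoImplicit false
set_option backward.isDefEq.respectTransparency.types false
universe u

open CategoryTheory CategoryTheory.Limits AlgebraicGeometry Opposite ARSys Groth.Agent.AR46

namespace Groth.Agent.EtModW45

variable {Λ : Type (u + 1)} [CommRing Λ] [IsNoetherianRing Λ] {X : Scheme.{u}} [ProEtS.EpsCont X] {I : Ideal Λ}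
  [IsNoetherian X]

/-- A morphism of adic systems with monomorphic limit has null kernel, and its image is adic up to translation. -/
theorem arIso_factorThru {A B : PS (EtModW.Mod Λ X)} (hA : IsAdic I A) (hB : IsAdic I B)
    (hAc : ∀ n : ℕ, EtModW.IsConstructible Λ (A.obj (op n))) (hBc : ∀ n : ℕ, EtModW.IsConstructible Λ (B.obj (op n)))
    (t : A ⟶ B) [Mono ((limFun Λ X).map t)] : IsARIso (factorThruImageSubobject t) := by
  obtain ⟨-, Y, v, hY, -, hv⟩ := (EtModAR45.arAdic_kernel_cokernel hA hB hAc hBc t).1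
  have := isIso_limFun_map (X := X) hv
  have hz : IsZero Y := isZero_of_isZero_limFun (IsNoetherian.noetherian I) hY
    ((isZero_kernel_of_mono ((limFun Λ X).map t)).of_iso
      (asIso ((limFun Λ X).map v) ≪≫ PreservesKernel.iso (limFun Λ X) t))
  obtain ⟨s, w, hw⟩ := (AR46.isARIso_iff_exists_shiftInverse v).1 hv
  have hK : IsARNull (kernel t) := ⟨s, fun n => by
    refine Eq.trans (hw.inv_comp n).symm ?_
    exact (congrArg (w n ≫ ·) (congr_app (hz.eq_of_src v 0) (op n))).trans comp_zero⟩
  let f := factorThruImageSubobject t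
  have : Epi f := inferInstance
  refine ⟨?_, ⟨0, fun n => ?_⟩⟩
  · obtain ⟨r, hr⟩ := hK
    let i : kernel f ⟶ kernel t := kernel.lift t (kernel.ι f) (by
      exact (congrArg (kernel.ι f ≫ ·) (imageSubobject_arrow_comp t).symm).trans
        ((Category.assoc _ _ _).symm.trans ((congrArg (· ≫ _) (kernel.condition f)).trans zero_comp)))
    have : Mono i := mono_of_mono_fac (kernel.lift_ι t (kernel.ι f) _)
    refine ⟨r, fun n => ?_⟩
    have := (NatTrans.mono_iff_mono_app i).1 inferInstance (op n)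
    rw [← cancel_mono (i.app (op n)), zero_comp]
    refine ((i.naturality _).trans ?_)
    exact (congrArg (i.app _ ≫ ·) (hr n)).trans comp_zero
  · exact (((evaluation ℕᵒᵖ (EtModW.Mod Λ X)).obj (op n)).map_isZero (isZero_cokernel_of_epi f)).eq_of_tgt _ _

/-- Increasing chains of adic subsheaves are stationary. -/
theorem chain_stationaryP {F : EtModW.ModP Λ X} (hF : AdicP I F) (Z : ℕ →o Subobject F)
    (hZ : ∀ k : ℕ, AdicP I (Subobject.underlying.obj (Z k))) : ∃ k₀ : ℕ, ∀ k : ℕ, k₀ ≤ k → Z k = Z k₀ := by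
  let Fn := limFun Λ X
  obtain ⟨B, hB, hBc, ⟨b⟩⟩ := hF.exists_system
  choose A hA hAc a using fun k => (hZ k).exists_system
  choose t ht using fun k => exists_map_eq (hA k) hB ((a k).some.hom ≫ (Z k).arrow ≫ b.inv)
  have hmono : ∀ k, Mono (Fn.map (t k)) := fun k => by rw [ht k]; infer_instance
  have hle : ∀ k, imageSubobject (t k) ≤ imageSubobject (t (k + 1)) := fun k => by
    obtain ⟨m, hm⟩ := exists_map_eq (hA k) (hA (k + 1))
      ((a k).some.hom ≫ Subobject.ofLE (Z k) (Z (k + 1)) (Z.monotone k.le_succ) ≫ (a (k + 1)).some.inv)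
    have := limEps_faithful (Λ := Λ) (X := X) (IsNoetherian.noetherian I)
    let PA : ObjectProperty.FullSubcategory (fun G : PS (EtModW.Mod Λ X) => IsAdic I G) := ⟨A k, hA k⟩
    let PB : ObjectProperty.FullSubcategory (fun G : PS (EtModW.Mod Λ X) => IsAdic I G) := ⟨B, hB⟩
    have hmap : Fn.map (m ≫ t (k + 1)) = Fn.map (t k) := by
      rw [Fn.map_comp, hm, ht, ht]
      simp
    have hmt : m ≫ t (k + 1) = t k := congrArg InducedCategory.Hom.hom
      ((limEps Λ X I).map_injective (X := PA) (Y := PB) (a₁ := ObjectProperty.homMk (m ≫ t (k + 1)))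
        (a₂ := ObjectProperty.homMk (t k)) hmap)
    rw [← hmt]
    exact imageSubobject_comp_le _ _
  let J : ℕ →o Subobject B := ⟨fun k => imageSubobject (t k), monotone_nat_of_le_succ hle⟩
  obtain ⟨k₀, hk₀⟩ := EtModAR45.chain_stationary hB hBc J fun k =>
    ⟨AR46.termKilled_of_mono (J k).arrow hB.1, A k, factorThruImageSubobject (t k), hA k, hAc k,
      arIso_factorThru (hA k) hB (hAc k) hBc (t k)⟩
  let e : ∀ k, (Subobject.underlying.obj (Z k) : EtModW.ModP Λ X) ≅ Fn.obj (J k : PS (EtModW.Mod Λ X)) := fun k =>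
    have := isIso_limFun_map (X := X) (arIso_factorThru (hA k) hB (hAc k) hBc (t k))
    (a k).some.symm ≪≫ asIso (Fn.map (factorThruImageSubobject (t k)))
  have he : ∀ k, (e k).hom ≫ Fn.map (J k).arrow ≫ b.hom = (Z k).arrow := fun k => by
    show ((a k).some.inv ≫ Fn.map (factorThruImageSubobject (t k))) ≫ Fn.map (imageSubobject (t k)).arrow ≫ b.hom = _
    rw [Category.assoc, ← Fn.map_comp_assoc, imageSubobject_arrow_comp, ht]
    simp
  have hstep : ∀ k, k₀ ≤ k → Z k = Z (k + 1) := fun k hk => by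
    refine le_antisymm (Z.monotone k.le_succ) ?_
    have := isIso_limFun_map (X := X) (hk₀ k hk)
    refine Subobject.le_of_comm ((e (k + 1)).hom ≫ inv (Fn.map (Subobject.ofLE (J k) (J (k + 1))
      (J.monotone k.le_succ))) ≫ (e k).inv) ?_
    simp only [Category.assoc]
    rw [← he k, Iso.inv_hom_id_assoc, ← Subobject.ofLE_arrow (J.monotone k.le_succ), Fn.map_comp, Category.assoc,
      IsIso.inv_hom_id_assoc, he]
  refine ⟨k₀, fun k hk => ?_⟩
  induction k, hk using Nat.le_induction with
  | base => rfl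
  | succ k hk ih => rw [← hstep k hk, ih]

end Groth.Agent.EtModW45
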