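import Groth.Agent.EtModW45.Eps
import Groth.Agent.AR46.Ideal

/-!
The tower of an adic pro-etale sheaf comes from an adic system on the etale site.
-/

set_option autoImplicit false
universe w u v u' v'

open CategoryTheory CategoryTheory.Limits AlgebraicGeometry Opposite ARSys Groth.Agent.AR46

namespace Groth.Agent.EtModW45

section Quot

variable {C : Type u} [Category.{v} C] {D : Type u'} [Category.{v'} D] [Abelian C] [Abelian D]
  {A : Type w} [CommRing A] [Linear A C] [Linear A D] {I K : Ideal A}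

/-- The map between two quotient maps out of the same object is a quotient map. -/
lemma isQuot_of_comp {M Q Q' : D} {p : M ⟶ Q} {p' : M ⟶ Q'} {t : Q ⟶ Q'} (hp : IsQuot K p) (hp' : IsQuot I p')
    (ht : p ≫ t = p') : IsQuot I t := by
  refine ⟨hp'.1, fun Z φ hφ => ?_⟩
  obtain ⟨ψ, hψ, huniq⟩ := hp'.2 Z (p ≫ φ) fun a ha => by rw [← Linear.comp_smul, hφ a ha, comp_zero]
  have := isQuot_epi hp
  exact ⟨ψ, (cancel_epi p).1 (by rw [reassoc_of% ht, hψ]), fun ψ' hψ' => huniq ψ'
    ((congrArg (fun q => q ≫ ψ') ht.symm).trans ((Category.assoc _ _ _).trans (congrArg (p ≫ ·) hψ')))⟩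

lemma isQuot_comp_iso {M Q Q' : D} {p : M ⟶ Q} (hp : IsQuot I p) (e : Q ≅ Q') : IsQuot I (p ≫ e.hom) := by
  refine ⟨fun a ha => ?_, fun Z φ hφ => ?_⟩
  · rw [← cancel_epi e.hom, Linear.comp_smul, Category.comp_id, comp_zero]
    exact homKilledBy_of_source hp.1 _ a ha
  · obtain ⟨ψ, hψ, huniq⟩ := hp.2 Z φ hφ
    exact ⟨e.inv ≫ ψ, by simp [hψ], fun ψ' hψ' => (cancel_epi e.hom).1 (by
      rw [Iso.hom_inv_id_assoc]; exact huniq _ ((Category.assoc _ _ _).symm.trans hψ'))⟩

variable (G : C ⥤ D) [G.Additive] [G.Linear A] [G.Full] [G.Faithful]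

omit [G.Full] in
lemma killedBy_reflect {M : C} (h : KilledBy I (G.obj M)) : KilledBy I M := fun a ha =>
  G.map_injective (by rw [G.map_smul, G.map_id, h a ha, G.map_zero])

lemma isQuot_reflect {M Q : C} {p : M ⟶ Q} (h : IsQuot I (G.map p)) : IsQuot I p := by
  refine ⟨killedBy_reflect G h.1, fun Z φ hφ => ?_⟩
  obtain ⟨ψ, hψ, huniq⟩ := h.2 _ (G.map φ) fun a ha => by rw [← G.map_smul, hφ a ha, G.map_zero]
  obtain ⟨ψ₀, rfl⟩ := G.map_surjective ψ
  exact ⟨ψ₀, G.map_injective (by rw [G.map_comp, hψ]),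
    fun ψ' hψ' => G.map_injective (huniq _ (((G.map_comp _ _).symm).trans (congrArg G.map hψ')))⟩

end Quot

variable {Λ : Type (u + 1)} [CommRing Λ] {I : Ideal Λ} {X : Scheme.{u}} [ProEtS.EpsCont X]

/-- The tower of quotients comes from an adic system on the etale site. -/
theorem exists_isAdic_of_tower {F : EtModW.ModP Λ X} {Q : ℕᵒᵖ ⥤ EtModW.ModP Λ X}
    {p : (Functor.const ℕᵒᵖ).obj F ⟶ Q} (hQ : ∀ n : ℕ, IsQuot (I ^ (n + 1)) (p.app (op n)))
    {P : EtModW.Mod Λ X → Prop}
    (hc : ∀ n : ℕ, ∃ E : EtModW.Mod Λ X, P E ∧ Nonempty ((EtModW.epsPullMod Λ X).obj E ≅ Q.obj (op n))) :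
    ∃ (G : PS (EtModW.Mod Λ X)) (_ : G ⋙ EtModW.epsPullMod Λ X ≅ Q),
      IsAdic I G ∧ ∀ n : ℕ, P (G.obj (op n)) := by
  choose E hE e using hc
  let i := fun n : ℕᵒᵖ => (e n.unop).some
  let ff := epsFF Λ X
  let G : PS (EtModW.Mod Λ X) :=
    { obj := fun n => E n.unop
      map := fun {m n} h => ff.preimage ((i m).hom ≫ Q.map h ≫ (i n).inv)
      map_id := fun n => ff.map_injective (by simp)
      map_comp := fun f g => ff.map_injective (by simp) }
  let iso : G ⋙ EtModW.epsPullMod Λ X ≅ Q := NatIso.ofComponents i fun {m n} h => by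
    show (EtModW.epsPullMod Λ X).map (ff.preimage _) ≫ _ = _
    rw [ff.map_preimage, Category.assoc, Category.assoc, Iso.inv_hom_id, Category.comp_id]
  refine ⟨G, iso, ⟨fun n => killedBy_reflect (EtModW.epsPullMod Λ X) fun a ha => ?_,
    fun n m h => isQuot_reflect (EtModW.epsPullMod Λ X) ?_⟩, fun n => hE n⟩
  · rw [← cancel_mono (iso.app (op n)).hom, Linear.smul_comp, Category.id_comp, zero_comp]
    exact homKilledBy_of_target (hQ n).1 _ a ha
  · have hw : p.app (op m) ≫ tr Q h = p.app (op n) := (p.naturality _).symm.trans (Category.id_comp _)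
    refine isQuot_of_comp (K := I ^ (m + 1)) (p := p.app (op m) ≫ (iso.app (op m)).inv)
      (p' := p.app (op n) ≫ (iso.app (op n)).inv) ?_ ?_ ?_
    · exact isQuot_comp_iso (hQ m) (iso.app (op m)).symm
    · exact isQuot_comp_iso (hQ n) (iso.app (op n)).symm
    · rw [Category.assoc]
      refine (congrArg (p.app (op m) ≫ ·) (iso.inv.naturality (homOfLE h).op).symm).trans ?_
      exact (Category.assoc _ _ _).symm.trans (congrArg (· ≫ _) hw)

end Groth.Agent.EtModW45
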