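import Groth.Agent.EtModW45.AdicLimit
import Groth.Agent.EtModW45.Tower

/-!
Adic pro-etale sheaves and adic systems on the etale site.
-/

set_option autoImplicit false
set_option backward.isDefEq.respectTransparency.types false
universe u

open CategoryTheory CategoryTheory.Limits AlgebraicGeometry Opposite ARSys Groth.Agent.AR46

namespace Groth.Agent.EtModW45

variable {Λ : Type (u + 1)} [CommRing Λ] {X : Scheme.{u}} [ProEtS.EpsCont X] {I : Ideal Λ}

/-- An adic system gives the quotient tower of its limit. -/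
theorem exists_tower_of_isAdic (hI : I.FG) {G : PS (EtModW.Mod Λ X)} (hG : IsAdic I G) {F : EtModW.ModP Λ X}
    (e : limit (G ⋙ EtModW.epsPullMod Λ X) ≅ F) :
    ∃ (p : (Functor.const ℕᵒᵖ).obj F ⟶ G ⋙ EtModW.epsPullMod Λ X),
      (∀ n : ℕ, IsQuot (I ^ (n + 1)) (p.app (op n))) ∧
      IsIso (limit.lift (G ⋙ EtModW.epsPullMod Λ X) (Cone.mk F p)) := by
  refine ⟨(Functor.const ℕᵒᵖ).map e.inv ≫ (limit.cone _).π, fun n => ?_, ?_⟩
  · obtain ⟨hk, hf⟩ := isQuot_limit_π hI hG n
    refine ⟨hk, fun Y φ hφ => ?_⟩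
    obtain ⟨ψ, hψ, huniq⟩ := hf Y (e.hom ≫ φ) fun a ha => by rw [← Linear.comp_smul, hφ a ha, comp_zero]
    refine ⟨ψ, (cancel_epi e.hom).1 ?_, fun ψ' hψ' => huniq ψ' ?_⟩
    · rw [← hψ]
      exact (congrArg (CategoryStruct.comp _) (Category.assoc _ _ _)).trans (Iso.hom_inv_id_assoc _ _)
    · rw [← hψ']
      exact ((congrArg (CategoryStruct.comp _) (Category.assoc _ _ _)).trans (Iso.hom_inv_id_assoc _ _)).symm
  · rw [show limit.lift (G ⋙ EtModW.epsPullMod Λ X) (Cone.mk F _) = e.inv from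
      limit.hom_ext fun j => (limit.lift_π _ _).trans rfl]
    infer_instance

/-- Adic pro-etale sheaves are the limits of adic systems of constructible sheaves. -/
theorem isAdicP_iff (hI : I.FG) (F : EtModW.ModP Λ X) :
    (∃ (Q : ℕᵒᵖ ⥤ EtModW.ModP Λ X) (p : (Functor.const ℕᵒᵖ).obj F ⟶ Q),
        (∀ n : ℕ, IsQuot (I ^ (n + 1)) (p.app (op n))) ∧
        (∀ n : ℕ, ∃ E : EtModW.Mod Λ X, EtModW.IsConstructible Λ E ∧
          Nonempty ((EtModW.epsPullMod Λ X).obj E ≅ Q.obj (op n))) ∧
        IsIso (limit.lift Q (Cone.mk F p))) ↔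
      ∃ G : PS (EtModW.Mod Λ X), IsAdic I G ∧ (∀ n : ℕ, EtModW.IsConstructible Λ (G.obj (op n))) ∧
        Nonempty (limit (G ⋙ EtModW.epsPullMod Λ X) ≅ F) := by
  constructor
  · rintro ⟨Q, p, hQ, hc, hlim⟩
    obtain ⟨G, iso, hG, hGc⟩ := exists_isAdic_of_tower hQ hc
    exact ⟨G, hG, hGc, ⟨HasLimit.isoOfNatIso iso ≪≫ (@asIso _ _ _ _ _ hlim).symm⟩⟩
  · rintro ⟨G, hG, hGc, ⟨e⟩⟩
    obtain ⟨p, hp, hl⟩ := exists_tower_of_isAdic hI hG e
    exact ⟨_, p, hp, fun n => ⟨_, hGc n, ⟨Iso.refl _⟩⟩, hl⟩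

variable (Λ X I) in
/-- The limit functor on adic systems. -/
noncomputable abbrev limEps :=
  ObjectProperty.ι (fun G : PS (EtModW.Mod Λ X) => IsAdic I G) ⋙
    ((Functor.whiskeringRight ℕᵒᵖ (EtModW.Mod Λ X) (EtModW.ModP Λ X)).obj (EtModW.epsPullMod Λ X) ⋙ lim)

/-- The limit functor is faithful on adic systems. -/
theorem limEps_faithful (hI : I.FG) : (limEps Λ X I).Faithful where
  map_injective {A B} f g h := by
    apply ObjectProperty.hom_ext
    apply NatTrans.ext
    funext j
    obtain ⟨n⟩ := j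
    apply (EtModW.epsPullMod Λ X).map_injective
    have := isQuot_epi (isQuot_limit_π hI A.property n)
    refine (cancel_epi (limit.π (A.obj ⋙ EtModW.epsPullMod Λ X) (op n))).1 ?_
    exact (limMap_π (Functor.whiskerRight f.hom (EtModW.epsPullMod Λ X)) (op n)).symm.trans
      ((congrArg (· ≫ limit.π _ (op n)) h).trans
        (limMap_π (Functor.whiskerRight g.hom (EtModW.epsPullMod Λ X)) (op n)))

/-- The limit functor is full on adic systems. -/
theorem limEps_full (hI : I.FG) : (limEps Λ X I).Full where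
  map_surjective {A B} f := by
    let L := EtModW.epsPullMod Λ X
    let π := fun n : ℕ => limit.π (A.obj ⋙ L) (op n)
    have hq := fun n => isQuot_limit_π (X := X) hI A.property n
    choose ψ hψ using fun n => ((hq n).2 _ (f ≫ limit.π (B.obj ⋙ L) (op n))
      (homKilledBy_of_target (EtModAR45.killedBy_map L (B.property.1 n)) _)).exists
    let t : A.obj ⟶ B.obj :=
      { app := fun j => (epsFF Λ X).preimage (ψ j.unop)
        naturality := fun i j a => by
          apply L.map_injective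
          have := isQuot_epi (hq i.unop)
          rw [L.map_comp, L.map_comp, (epsFF Λ X).map_preimage, (epsFF Λ X).map_preimage]
          refine (cancel_epi (π i.unop)).1 ?_
          refine (Category.assoc _ _ _).symm.trans ?_
          refine (congrArg (· ≫ ψ j.unop) (limit.w (A.obj ⋙ L) a)).trans ((hψ j.unop).trans ?_)
          refine Eq.trans ?_ (Category.assoc _ _ _)
          refine Eq.trans ?_ (congrArg (· ≫ L.map (B.obj.map a)) (hψ i.unop)).symm
          exact (congrArg (f ≫ ·) (limit.w (B.obj ⋙ L) a).symm).trans (Category.assoc _ _ _).symm }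
    refine ⟨ObjectProperty.homMk t, limit.hom_ext fun j => ?_⟩
    obtain ⟨n⟩ := j
    refine (limMap_π (Functor.whiskerRight t L) (op n)).trans ?_
    exact (congrArg (π n ≫ ·) ((epsFF Λ X).map_preimage (ψ n))).trans (hψ n)

end Groth.Agent.EtModW45
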