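import Groth.Agent.EtModW45.PrincExt
import Groth.Agent.EtModW45.AdicChain
import Mathlib.RingTheory.Ideal.Pointwise

/-!
Adic pro-etale sheaves for a principal ideal are stable under extensions.
-/

set_option autoImplicit false
set_option backward.isDefEq.respectTransparency.types false
universe u

open CategoryTheory CategoryTheory.Limits AlgebraicGeometry Opposite ARSys Groth.Agent.AR46

namespace Groth.Agent.EtModW45

variable {Λ : Type (u + 1)} [CommRing Λ] {X : Scheme.{u}}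

/-- Sections over an object of a morphism. -/
noncomputable abbrev sctMap (W : X.ProEt) {F G : EtModW.ModP Λ X} (φ : F ⟶ G) :
    ((secF W).obj F : Type (u + 1)) →ₗ[Λ] (secF W).obj G :=
  ((secF W).map φ).hom

theorem sctMap_comp (W : X.ProEt) {F G H : EtModW.ModP Λ X} (φ : F ⟶ G) (ψ : G ⟶ H) (x : (secF W).obj F) :
    sctMap W (φ ≫ ψ) x = sctMap W ψ (sctMap W φ x) :=
  ConcreteCategory.congr_hom ((secF W).map_comp φ ψ) x

theorem sctMap_eq (W : X.ProEt) {F G : EtModW.ModP Λ X} {φ ψ : F ⟶ G} (h : φ = ψ) (x : (secF W).obj F) :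
    sctMap W φ x = sctMap W ψ x := by rw [h]

theorem sctMap_smul_id (W : X.ProEt) (F : EtModW.ModP Λ X) (b : Λ) (x : (secF W).obj F) :
    sctMap W (b • 𝟙 F) x = b • x := rfl

/-- Sections of a limit are determined by their projections. -/
theorem sct_limit_ext (Q : PS (EtModW.ModP Λ X)) (W : X.ProEt) (x : (secF W).obj (limit Q))
    (h : ∀ m : ℕ, sctMap W (limit.π Q (op m)) x = 0) : x = 0 :=
  Concrete.isLimit_ext _ (isLimitOfPreserves (secF W) (limit.isLimit Q)) _ _ fun j => by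
    obtain ⟨m⟩ := j
    exact (h m).trans (map_zero (sctMap W (limit.π Q (op m)))).symm

/-- A criterion for the map to the limit to be invertible. -/
theorem isIso_lift_of_wc {F : EtModW.ModP Λ X} {Q : PS (EtModW.ModP Λ X)}
    (p : (Functor.const ℕᵒᵖ).obj F ⟶ Q)
    (hinj : ∀ W : X.ProEt, IsAffine W.left → ProEtS.IsWC W → ∀ x : (secF W).obj F,
      (∀ n : ℕ, sctMap W (p.app (op n)) x = 0) → x = 0)
    (hsurj : ∀ W : X.ProEt, IsAffine W.left → ProEtS.IsWC W → ∀ y : (secF W).obj (limit Q),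
      ∃ x : (secF W).obj F, ∀ n : ℕ, sctMap W (p.app (op n)) x = sctMap W (limit.π Q (op n)) y) :
    IsIso (limit.lift Q (Cone.mk F p)) := by
  let φ := limit.lift Q (Cone.mk F p)
  have hφ : ∀ W x (n : ℕ), sctMap W (limit.π Q (op n)) (sctMap W φ x) = sctMap W (p.app (op n)) x :=
    fun W x n => (sctMap_comp W φ (limit.π Q (op n)) x).symm.trans (sctMap_eq W (limit.lift_π _ _) x)
  have : Mono φ := Preadditive.mono_of_kernel_zero (eq_zero_of_wc _ fun W hA hW x =>
    hinj W hA hW _ fun n => by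
      rw [← hφ, ← sctMap_comp W (kernel.ι φ) φ, sctMap_eq W (kernel.condition φ)]
      exact map_zero _)
  have : Epi φ := Preadditive.epi_of_cokernel_zero (eq_zero_of_wc _ fun W hA hW y => by
    obtain ⟨x, hx⟩ := hsurj W hA hW y
    have hy : y = sctMap W φ x := sub_eq_zero.1 (sct_limit_ext Q W _ fun n => by
      rw [map_sub, hφ, hx, sub_self])
    rw [hy]
    refine (sctMap_comp W φ (cokernel.π φ) x).symm.trans ?_
    rw [sctMap_eq W (cokernel.condition φ)]
    rfl)
  exact isIso_of_mono_of_epi φ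

variable [IsNoetherianRing Λ] [ProEtS.EpsCont X] {a : Λ}

omit [IsNoetherianRing Λ] [ProEtS.EpsCont X] in
/-- Membership in the multiples by a power of a principal ideal. -/
theorem mem_span_pow_smul {M : Type*} [AddCommGroup M] [Module Λ M] (n : ℕ) (x : M) :
    x ∈ Ideal.span {a} ^ n • (⊤ : Submodule Λ M) ↔ ∃ z, a ^ n • z = x := by
  rw [Ideal.span_singleton_pow, Submodule.ideal_span_singleton_smul, Submodule.mem_smul_pointwise_iff_exists]
  simp

/-- Sections of an adic sheaf are separated and complete. -/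
theorem sep_compl {F : EtModW.ModP Λ X} (h : AdicP (Ideal.span {a}) F) {W : X.ProEt} (hW : ProEtS.IsWC W) :
    Sep a ((secF W).obj F) ∧ Compl a ((secF W).obj F) := by
  obtain ⟨G, hG, -, ⟨e₀⟩⟩ := h.exists_system
  let e : limit (epsSys G) ≅ F := e₀
  have he : ∀ x, sctMap W e.hom (sctMap W e.inv x) = x := fun x =>
    (sctMap_comp W e.inv e.hom x).symm.trans ((sctMap_eq W e.inv_hom_id x).trans
      (ConcreteCategory.congr_hom ((secF W).map_id _) x))
  have hdiv : ∀ (n : ℕ) (z : (secF W).obj F), prj G W n (sctMap W e.inv (a ^ (n + 1) • z)) = 0 := fun n z => by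
    rw [map_smul, map_smul]
    have := ConcreteCategory.congr_hom (congrArg (secF W).map (EtModAR45.killedBy_map (EtModW.epsPullMod Λ X)
      (hG.1 n) (a ^ (n + 1)) (Ideal.pow_mem_pow (Ideal.mem_span_singleton_self a) _)))
      (prj G W n (sctMap W e.inv z))
    exact this
  refine ⟨fun x hx => ?_, fun x hx => ?_⟩
  · have h0 : sctMap W e.inv x = 0 := prj_ext G W _ fun m => by
      obtain ⟨z, rfl⟩ := hx (m + 1)
      exact hdiv m z
    rw [← he x, h0, map_zero]
  · obtain ⟨y, hy⟩ := exists_sect G W (fun n => prj G W n (sctMap W e.inv (x n))) fun n => by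
      obtain ⟨z, hz⟩ := hx n
      rw [trs_prj, ← sub_eq_zero, ← map_sub, ← map_sub, ← hz]
      exact hdiv n z
    refine ⟨sctMap W e.hom y, fun n => ?_⟩
    have h1 : prj G W n (y - sctMap W e.inv (x n)) = 0 := by rw [map_sub, hy, sub_self]
    obtain ⟨z, hz⟩ := (mem_span_pow_smul (n + 1) _).1
      (ker_prj (IsNoetherian.noetherian _) hG hW n (LinearMap.mem_ker.2 h1))
    exact ⟨sctMap W e.hom z, by rw [← map_smul, hz, map_sub, he]⟩

variable [IsNoetherian X]

/-- The torsion of an adic sheaf is bounded. -/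
theorem exists_torsion_bound {H : EtModW.ModP Λ X} (hH : AdicP (Ideal.span {a}) H) :
    ∃ c : ℕ, ∀ (W : X.ProEt) (m : ℕ) (x : (secF W).obj H), a ^ m • x = 0 → a ^ c • x = 0 := by
  have hle : ∀ m, kernelSubobject (a ^ m • 𝟙 H) ≤ kernelSubobject (a ^ (m + 1) • 𝟙 H) := fun m => by
    refine le_kernelSubobject _ _ ?_
    rw [pow_succ', mul_smul, Linear.comp_smul, kernelSubobject_arrow_comp, smul_zero]
  let Z : ℕ →o Subobject H := ⟨fun m => kernelSubobject (a ^ m • 𝟙 H), monotone_nat_of_le_succ hle⟩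
  obtain ⟨c, hc⟩ := chain_stationaryP hH Z fun m =>
    (adicP_kernel_cokernel hH hH (a ^ m • 𝟙 H)).1.of_iso (kernelSubobjectIso _).symm
  refine ⟨c, fun W m x hx => ?_⟩
  rcases le_total m c with hm | hm
  · rw [← Nat.sub_add_cancel hm, pow_add, mul_smul, hx, smul_zero]
  have h0 : kernel.ι (a ^ m • 𝟙 H) ≫ (a ^ c • 𝟙 H) = 0 := by
    obtain ⟨t, ht⟩ : ∃ t, t ≫ (Z c).arrow = kernel.ι (a ^ m • 𝟙 H) :=
      ⟨(kernelSubobjectIso _).inv ≫ Subobject.ofLE (Z m) (Z c) (hc m hm).le, by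
        rw [Category.assoc, Subobject.ofLE_arrow]
        exact kernelSubobject_arrow' _⟩
    rw [← ht, Category.assoc]
    exact (congrArg (t ≫ ·) (kernelSubobject_arrow_comp _)).trans comp_zero
  have : PreservesFiniteLimits (secF W : EtModW.ModP Λ X ⥤ _) := comp_preservesFiniteLimits _ _
  let f := a ^ m • 𝟙 H
  let e := PreservesKernel.iso (secF W) f ≪≫ ModuleCat.kernelIsoKer ((secF W).map f)
  obtain ⟨x', rfl⟩ : ∃ x', sctMap W (kernel.ι f) x' = x := by
    refine ⟨e.inv ⟨x, (sctMap_smul_id W H _ x).trans hx⟩, ?_⟩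
    have h1 : e.inv ≫ (secF W).map (kernel.ι f) = ModuleCat.ofHom (LinearMap.ker ((secF W).map f).hom).subtype := by
      rw [Iso.inv_comp_eq, Iso.trans_hom, Category.assoc, ModuleCat.kernelIsoKer_hom_ker_subtype,
        PreservesKernel.iso_hom, kernelComparison_comp_ι]
    exact ConcreteCategory.congr_hom h1 ⟨x, (sctMap_smul_id W H _ x).trans hx⟩
  rw [← sctMap_smul_id W H, ← sctMap_comp W (kernel.ι f), sctMap_eq W h0]
  rfl

omit [IsNoetherianRing Λ] [AlgebraicGeometry.IsNoetherian X] in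
/-- Constructible pro-etale sheaves. -/
theorem cons_of_adicP_killed {H : EtModW.ModP Λ X} (hH : AdicP (Ideal.span {a}) H) (n : ℕ)
    (hk : KilledBy (Ideal.span {a} ^ (n + 1)) H) :
    ∃ E : EtModW.Mod Λ X, EtModW.IsConstructible Λ E ∧ Nonempty ((EtModW.epsPullMod Λ X).obj E ≅ H) := by
  obtain ⟨Q, p, hQ, hc, -⟩ := hH
  obtain ⟨E, hE, ⟨i⟩⟩ := hc n
  exact ⟨E, hE, ⟨i ≪≫ isQuotIso (hQ n) (p' := 𝟙 H)
    ⟨hk, fun Y φ _ => ⟨φ, Category.id_comp φ, fun ψ hψ => (Category.id_comp ψ).symm.trans hψ⟩⟩⟩⟩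

/-- Adic sheaves for a principal ideal are stable under extensions. -/
theorem adicP_extension {S : ShortComplex (EtModW.ModP Λ X)} (hS : S.ShortExact)
    (h₁ : AdicP (Ideal.span {a}) S.X₁) (h₃ : AdicP (Ideal.span {a}) S.X₃) : AdicP (Ideal.span {a}) S.X₂ := by
  obtain ⟨Q, p, hQ⟩ := exists_tower a S.X₂
  let P : ObjectProperty (EtModW.ModP Λ X) := fun F =>
    ∃ E : EtModW.Mod Λ X, EtModW.IsConstructible Λ E ∧ Nonempty ((EtModW.epsPullMod Λ X).obj E ≅ F)
  have := isWeakSerre_isConstructible (Λ := Λ) X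
  have : WSerre.IsWeakSerre P := isWeakSerre_eps (EtModW.IsConstructible Λ)
  have hq : ∀ (M : EtModW.ModP Λ X) (n : ℕ), IsQuot (Ideal.span {a} ^ (n + 1)) (cokernel.π (a ^ (n + 1) • 𝟙 M)) :=
    fun M n => by rw [Ideal.span_singleton_pow]; exact isQuot_cokernel_smul _ _
  have hcok : ∀ {M : EtModW.ModP Λ X}, AdicP (Ideal.span {a}) M → ∀ n : ℕ, P (cokernel (a ^ (n + 1) • 𝟙 M)) := by
    rintro M ⟨Q', p', hQ', hc', -⟩ n
    obtain ⟨E, hE, ⟨i⟩⟩ := hc' n
    exact ⟨E, hE, ⟨i ≪≫ isQuotIso (hQ' n) (hq M n)⟩⟩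
  have hkerP : ∀ n : ℕ, P (kernel (a ^ (n + 1) • 𝟙 S.X₃)) := fun n =>
    cons_of_adicP_killed (adicP_kernel_cokernel h₃ h₃ _).1 n fun b hb => by
      rw [Ideal.span_singleton_pow] at hb
      obtain ⟨d, rfl⟩ := Ideal.mem_span_singleton'.1 hb
      have := kernel.condition (a ^ (n + 1) • 𝟙 S.X₃)
      rw [Linear.comp_smul, Category.comp_id] at this
      rw [mul_smul, ← cancel_mono (kernel.ι (a ^ (n + 1) • 𝟙 S.X₃)), Linear.smul_comp, Linear.smul_comp,
        Category.id_comp, this, smul_zero, zero_comp]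
  refine ⟨Q, p, hQ, fun n => ?_, ?_⟩
  · obtain ⟨E, hE, ⟨i⟩⟩ := prop_cokernel_smul_X₂ (P := P) hS (a ^ (n + 1)) (hkerP n) (hcok h₁ n) (hcok h₃ n)
    exact ⟨E, hE, ⟨i ≪≫ isQuotIso (hq S.X₂ n) (hQ n)⟩⟩
  obtain ⟨c, hc⟩ := exists_torsion_bound h₃
  have hker : ∀ (W : X.ProEt), ProEtS.IsWC W → ∀ (n : ℕ) (x : (secF W).obj S.X₂),
      sctMap W (p.app (op n)) x = 0 ↔ ∃ z, a ^ (n + 1) • z = x := fun W hW n x => by
    rw [← mem_span_pow_smul, ← LinearMap.mem_ker]
    exact iff_of_eq (congrArg (x ∈ ·) (sections_isQuot (IsNoetherian.noetherian _) (hQ n) hW).2)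
  have hmod : ∀ W : X.ProEt, ProEtS.IsWC W → Sep a ((secF W).obj S.X₂) ∧ Compl a ((secF W).obj S.X₂) := by
    intro W hW
    have := hS.mono_f
    have := hS.epi_g
    have : PreservesFiniteLimits (secF W : EtModW.ModP Λ X ⥤ _) := comp_preservesFiniteLimits _ _
    obtain ⟨hex, hmono⟩ :=
      (Functor.preservesFiniteLimits_iff_forall_exact_map_and_mono (secF W)).1 inferInstance _ hS
    have hf : Function.Injective (sctMap W S.f) := (ModuleCat.mono_iff_injective _).1 hmono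
    have hg : Function.Surjective (sctMap W S.g) := surjective_of_epi_mod S.g hW
    have hfg : ∀ x, sctMap W S.g x = 0 ↔ ∃ y, sctMap W S.f y = x := fun x => by
      rw [← LinearMap.mem_ker, ← LinearMap.mem_range]
      exact iff_of_eq (congrArg (x ∈ ·) hex.moduleCat_range_eq_ker.symm)
    exact ⟨sep_extension a _ _ hf hfg (hc W) (sep_compl h₁ hW) (sep_compl h₃ hW),
      compl_extension a _ _ hf hg hfg (hc W) (sep_compl h₁ hW) (sep_compl h₃ hW)⟩
  refine isIso_lift_of_wc p (fun W _ hW x hx => (hmod W hW).1 x fun n => ?_) fun W _ hW y => ?_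
  · obtain ⟨z, hz⟩ := (hker W hW n x).1 (hx n)
    exact ⟨a • z, by rw [← mul_smul, ← pow_succ]; exact hz⟩
  · choose x hx using fun n : ℕ => (sections_isQuot (IsNoetherian.noetherian _) (hQ n) hW).1
      (sctMap W (limit.π Q (op n)) y)
    have htr : ∀ n : ℕ, sctMap W (p.app (op n)) (x (n + 1)) = sctMap W (limit.π Q (op n)) y := fun n => by
      have hw : p.app (op (n + 1)) ≫ tr Q n.le_succ = p.app (op n) := (p.naturality _).symm.trans (Category.id_comp _)
      rw [← sctMap_eq W hw, sctMap_comp, show sctMap W (p.app (op (n + 1))) (x (n + 1)) = _ from hx (n + 1),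
        ← sctMap_comp, sctMap_eq W (limit.w Q (homOfLE n.le_succ).op)]
    obtain ⟨g, hg⟩ := (hmod W hW).2 x fun n => (hker W hW n _).1 (by
      rw [map_sub, htr, show sctMap W (p.app (op n)) (x n) = _ from hx n, sub_self])
    refine ⟨g, fun n => ?_⟩
    have := (hker W hW n _).2 (hg n)
    rwa [map_sub, sub_eq_zero, show sctMap W (p.app (op n)) (x n) = _ from hx n] at this

end Groth.Agent.EtModW45
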