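import Groth.Agent.EtModW45.Forget
import Groth.Agent.Mod48.ProEtVanish
import Groth.Agent.Mod48.ProEtBaseChange
import Mathlib.CategoryTheory.Adjunction.Mates
import Groth.Agent.EtModAR45.Transfer
import Groth.Agent.LocConst45.ModPull
import Groth.Prelude.Def_EtModW

/-!
The inverse image to the pro-etale site on sheaves of modules: exact, linear, fully faithful.
-/

set_option autoImplicit false
set_option backward.isDefEq.respectTransparency.types false
universe u

open CategoryTheory CategoryTheory.Limits AlgebraicGeometry Opposite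

namespace Groth.Agent.EtModW45

variable (Λ : Type (u + 1)) [CommRing Λ] (X : Scheme.{u})

/-- The underlying abelian group. -/
noncomputable abbrev ug : ModuleCat.{u + 1} Λ ⥤ AddCommGrpCat.{u + 1} := forget₂ _ _

/-- The underlying etale abelian sheaf. -/
noncomputable abbrev ugE : EtModW.Mod Λ X ⥤ EtCoh.Ab X := sheafCompose X.smallEtaleTopology (ug Λ)

/-- The underlying pro-etale abelian sheaf. -/
noncomputable abbrev ugP : EtModW.ModP Λ X ⥤ ProEtS.AbP X := sheafCompose (Scheme.ProEt.topology X) (ug Λ)

instance proEt_preservesSheafification : (Scheme.ProEt.topology X).PreservesSheafification (ug Λ) := by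
  rw [GrothendieckTopology.preservesSheafification_iff_of_adjunctions_of_hasSheafCompose _ _
    (plusPlusAdjunction (Scheme.ProEt.topology X) (ModuleCat.{u + 1} Λ))
    (plusPlusAdjunction (Scheme.ProEt.topology X) AddCommGrpCat.{u + 1})]
  exact NatIso.isIso_of_isIso_app _

instance ugE_preservesFiniteLimits : PreservesFiniteLimits (ugE Λ X) :=
  haveI : PreservesFiniteLimits (ugE Λ X ⋙ sheafToPresheaf X.smallEtaleTopology AddCommGrpCat.{u + 1}) :=
    comp_preservesFiniteLimits (sheafToPresheaf X.smallEtaleTopology (ModuleCat.{u + 1} Λ))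
      ((Functor.whiskeringRight _ _ _).obj (ug Λ))
  preservesFiniteLimits_of_reflects_of_preserves _ (sheafToPresheaf _ _)

instance ugP_preservesFiniteLimits : PreservesFiniteLimits (ugP Λ X) :=
  haveI : PreservesFiniteLimits (ugP Λ X ⋙ sheafToPresheaf (Scheme.ProEt.topology X) AddCommGrpCat.{u + 1}) :=
    comp_preservesFiniteLimits (sheafToPresheaf (Scheme.ProEt.topology X) (ModuleCat.{u + 1} Λ))
      ((Functor.whiskeringRight _ _ _).obj (ug Λ))
  preservesFiniteLimits_of_reflects_of_preserves _ (sheafToPresheaf _ _)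

variable [ProEtS.EpsCont X]

/-- The adjunction on modules. -/
noncomputable abbrev epsModAdj : EtModW.epsPullMod Λ X ⊣
    (ProEtS.eps X).sheafPushforwardContinuous (ModuleCat.{u + 1} Λ) X.smallEtaleTopology
      (Scheme.ProEt.topology X) :=
  (ProEtS.eps X).sheafAdjunctionContinuous (ModuleCat.{u + 1} Λ) X.smallEtaleTopology (Scheme.ProEt.topology X)

instance isIso_epsCompare (F : EtModW.Mod Λ X) :
    IsIso ((pullCompare (ProEtS.eps X) (ug Λ) X.smallEtaleTopology (Scheme.ProEt.topology X)).app F) :=
  isIso_pullCompare (ProEtS.eps X) (ug Λ) X.smallEtaleTopology (Scheme.ProEt.topology X) F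

/-- The underlying abelian sheaf of the inverse image. -/
noncomputable def epsUgIso : ugE Λ X ⋙ ProEtS.epsPull X ≅ EtModW.epsPullMod Λ X ⋙ ugP Λ X :=
  NatIso.ofComponents (fun F => @asIso _ _ _ _ _ (isIso_epsCompare Λ X F))
    fun f => (pullCompare (ProEtS.eps X) (ug Λ) X.smallEtaleTopology (Scheme.ProEt.topology X)).naturality f

instance isIso_unit (F : EtModW.Mod Λ X) : IsIso ((epsModAdj Λ X).unit.app F) := by
  have h1 : IsIso ((ProEtS.epsAdj X).unit.app ((ugE Λ X).obj F)) := (Mod48.proEtGSite X).isIso_unit _
  have h2 : IsIso ((ProEtS.epsPush X).map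
      ((pullCompare (ProEtS.eps X) (ug Λ) X.smallEtaleTopology (Scheme.ProEt.topology X)).app F)) := inferInstance
  have h3 : IsIso ((ugE Λ X).map ((epsModAdj Λ X).unit.app F)) := by
    rw [← unit_pullCompare (ProEtS.eps X) (ug Λ) X.smallEtaleTopology (Scheme.ProEt.topology X) F]
    exact @IsIso.comp_isIso _ _ _ _ _ _ _ h1 h2
  exact isIso_of_reflects_iso _ (ugE Λ X)

/-- The inverse image to the pro-etale site is fully faithful. -/
noncomputable def epsFF : (EtModW.epsPullMod Λ X).FullyFaithful :=
  haveI : IsIso (epsModAdj Λ X).unit := NatIso.isIso_of_isIso_app _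
  (epsModAdj Λ X).fullyFaithfulLOfIsIsoUnit

instance eps_full : (EtModW.epsPullMod Λ X).Full := (epsFF Λ X).full

instance eps_faithful : (EtModW.epsPullMod Λ X).Faithful := (epsFF Λ X).faithful

instance epsPush_additive : ((ProEtS.eps X).sheafPushforwardContinuous (ModuleCat.{u + 1} Λ) X.smallEtaleTopology
    (Scheme.ProEt.topology X)).Additive where

instance eps_additive : (EtModW.epsPullMod Λ X).Additive := (epsModAdj Λ X).left_adjoint_additive

instance epsPush_linear : ((ProEtS.eps X).sheafPushforwardContinuous (ModuleCat.{u + 1} Λ) X.smallEtaleTopology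
    (Scheme.ProEt.topology X)).Linear Λ where

instance eps_linear : (EtModW.epsPullMod Λ X).Linear Λ where
  map_smul φ a := ((epsModAdj Λ X).homEquiv _ _).injective (by
    rw [Adjunction.homEquiv_unit, Adjunction.homEquiv_unit, Adjunction.unit_naturality,
      Functor.map_smul ((ProEtS.eps X).sheafPushforwardContinuous (ModuleCat.{u + 1} Λ) X.smallEtaleTopology
        (Scheme.ProEt.topology X)), Linear.comp_smul, Adjunction.unit_naturality, Linear.smul_comp])

instance eps_preservesFiniteColimits : PreservesFiniteColimits (EtModW.epsPullMod Λ X) :=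
  haveI : (EtModW.epsPullMod Λ X).IsLeftAdjoint := (epsModAdj Λ X).isLeftAdjoint
  inferInstance

instance eps_preservesFiniteLimits : PreservesFiniteLimits (EtModW.epsPullMod Λ X) := by
  have : PreservesFiniteLimits (ProEtS.epsPull X) := Mod48.ProLim.preservesFiniteLimits_epsPull
  have : PreservesFiniteLimits (ugE Λ X) := inferInstance
  have : PreservesFiniteLimits (EtModW.epsPullMod Λ X ⋙ ugP Λ X) :=
    preservesFiniteLimits_of_natIso (epsUgIso Λ X)
  exact ⟨fun J _ _ =>
    haveI := reflectsLimitsOfShape_of_reflectsIsomorphisms (J := J) (G := ugP Λ X)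
    preservesLimitsOfShape_of_reflects_of_preserves _ (ugP Λ X)⟩

variable {X} {Y : Scheme.{u}} [ProEtS.EpsCont Y] (f : X ⟶ Y) [ProEtS.PCont f]

/-- The inverse image to the pro-etale site commutes with inverse images. -/
noncomputable def epsPullIso :
    EtModW.pull Λ f ⋙ EtModW.epsPullMod Λ X ≅ EtModW.epsPullMod Λ Y ⋙
      (ProEtS.bcP f).sheafPullback (ModuleCat.{u + 1} Λ) (Scheme.ProEt.topology Y) (Scheme.ProEt.topology X) :=
  ((conjugateIsoEquiv
    ((LocConst45.Mod.modAdj Λ f).comp (epsModAdj Λ X))
    ((epsModAdj Λ Y).comp ((ProEtS.bcP f).sheafAdjunctionContinuous (ModuleCat.{u + 1} Λ)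
      (Scheme.ProEt.topology Y) (Scheme.ProEt.topology X)))).symm
    (NatIso.ofComponents (fun F => (fullyFaithfulSheafToPresheaf _ _).preimageIso
      (NatIso.ofComponents (fun E => F.obj.mapIso (Mod48.ProLim.bcEps f E.unop).op)
        fun {E E'} g => by
          refine (F.obj.map_comp _ _).symm.trans (Eq.trans ?_ (F.obj.map_comp _ _))
          exact congrArg (fun q => F.obj.map q.op) (Mod48.ProLim.bcEps_naturality f g.unop)))
      fun {F F'} φ => by
        apply ObjectProperty.hom_ext
        apply NatTrans.ext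
        funext E
        exact (φ.hom.naturality _).symm)).symm

end Groth.Agent.EtModW45
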