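import Groth.Agent.EtModW45.WCSect
import Groth.Agent.EtModAR45.Transfer
import Groth.Agent.EtModW45.Eps
import Groth.Agent.Mod48.Milnor

/-!
Limits of adic systems of modules, and of their pullbacks to the pro-etale site.
-/

set_option autoImplicit false
set_option backward.isDefEq.respectTransparency.types false
universe w u

open CategoryTheory CategoryTheory.Limits AlgebraicGeometry Opposite ARSys Groth.Agent.AR46

namespace Groth.Agent.EtModW45

section Modules

variable {Λ : Type w} [CommRing Λ]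

/-- Elements of a product of a finitely generated ideal and a submodule. -/
theorem exists_coeff {M : Type*} [AddCommGroup M] [Module Λ M] {k : ℕ} (g : Fin k → Λ) (N : Submodule Λ M)
    {x : M} (hx : x ∈ (Submodule.span Λ (Set.range g) : Ideal Λ) • N) :
    ∃ c : Fin k → M, (∀ i, c i ∈ N) ∧ x = ∑ i, g i • c i := by
  refine Submodule.smul_induction_on hx (fun a ha m hm => ?_) fun a b ha hb => ?_
  · obtain ⟨c, rfl⟩ := (Submodule.mem_span_range_iff_exists_fun Λ).1 ha
    exact ⟨fun i => c i • m, fun i => N.smul_mem _ hm, by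
      rw [Finset.sum_smul]
      exact Finset.sum_congr rfl fun i _ => by rw [smul_eq_mul, mul_comm, mul_smul]⟩
  · obtain ⟨c, hc, rfl⟩ := ha
    obtain ⟨d, hd, rfl⟩ := hb
    exact ⟨fun i => c i + d i, fun i => N.add_mem (hc i) (hd i), by
      simp only [smul_add, Finset.sum_add_distrib]⟩

variable {A : ℕ → Type*} [∀ m, AddCommGroup (A m)] [∀ m, Module Λ (A m)]

/-- In the limit of an adic system the kernel of a projection is the multiple by the ideal. -/
theorem ker_proj_le {L : Type*} [AddCommGroup L] [Module Λ L] (pr : ∀ m, L →ₗ[Λ] A m)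
    (t : ∀ {a b : ℕ}, a ≤ b → A b →ₗ[Λ] A a)
    (hpr : ∀ {a b : ℕ} (h : a ≤ b) (x : L), t h (pr b x) = pr a x)
    (hext : ∀ x : L, (∀ m, pr m x = 0) → x = 0)
    (hex : ∀ z : ∀ m, A m, (∀ m, t m.le_succ (z (m + 1)) = z m) → ∃ x : L, ∀ m, pr m x = z m)
    (hsurj : ∀ m, Function.Surjective (pr m)) {I : Ideal Λ}
    (hker : ∀ {a b : ℕ} (h : a ≤ b), LinearMap.ker (t h) ≤ I ^ (a + 1) • (⊤ : Submodule Λ (A b)))
    (hkill : ∀ m, ∀ c ∈ I ^ (m + 1), ∀ x : A m, c • x = 0)
    (n : ℕ) (hI : (I ^ (n + 1)).FG) : LinearMap.ker (pr n) ≤ I ^ (n + 1) • (⊤ : Submodule Λ L) := by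
  intro x hx
  obtain ⟨k, g, hg⟩ := Submodule.fg_iff_exists_fin_generating_family.1 hI
  have step : ∀ (j : ℕ) (r : L), pr (n + j) r = 0 → ∃ y : Fin k → L,
      (∀ i, y i ∈ I ^ j • (⊤ : Submodule Λ L)) ∧ pr (n + (j + 1)) (r - ∑ i, g i • y i) = 0 := by
    intro j r hr
    have hle : n + j ≤ n + (j + 1) := by omega
    have h1 : pr (n + (j + 1)) r ∈ I ^ (n + j + 1) • (⊤ : Submodule Λ (A (n + (j + 1)))) :=
      hker hle (by rw [LinearMap.mem_ker, hpr, hr])
    have h2 : Submodule.map (pr (n + (j + 1))) (I ^ j • (⊤ : Submodule Λ L)) = I ^ j • ⊤ := by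
      rw [Submodule.map_smul'', Submodule.map_top, LinearMap.range_eq_top.2 (hsurj _)]
    rw [show n + j + 1 = (n + 1) + j by omega, pow_add, ← hg, ← smul_eq_mul, Submodule.smul_assoc] at h1
    obtain ⟨c, hc, he⟩ := exists_coeff g _ h1
    choose y hy hy' using fun i => (Submodule.mem_map.1 (h2.ge (hc i)))
    refine ⟨y, hy, ?_⟩
    rw [map_sub, he, map_sum, sub_eq_zero]
    exact Finset.sum_congr rfl fun i _ => by rw [map_smul, hy']
  choose! y hy hy' using step
  let r : ℕ → L := fun j => Nat.rec (motive := fun _ => L) x (fun j r => r - ∑ i, g i • y j r i) j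
  have hr : ∀ j, pr (n + j) (r j) = 0 := by
    intro j
    induction j with
    | zero => exact hx
    | succ j ih => exact hy' j (r j) ih
  have hy0 : ∀ j m, m < j → ∀ i, pr m (y j (r j) i) = 0 := by
    intro j m hm i
    have h1 := Submodule.mem_map_of_mem (f := pr m) (hy j (r j) (hr j) i)
    rw [Submodule.map_smul''] at h1
    refine Submodule.smul_induction_on h1 (fun c hc a _ => hkill m c (Ideal.pow_le_pow_right hm hc) a)
      fun a b ha hb => by rw [ha, hb, add_zero]
  let z : Fin k → ∀ m, A m := fun i m => ∑ j ∈ Finset.range (m + 1), pr m (y j (r j) i)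
  have hz : ∀ i m, t m.le_succ (z i (m + 1)) = z i m := fun i m => by
    simp only [z, map_sum, hpr]
    rw [Finset.sum_range_succ, hy0 (m + 1) m (Nat.lt_succ_self m) i, add_zero]
  choose Z hZ using fun i => hex (z i) (hz i)
  have hx' : x = ∑ i, g i • Z i := sub_eq_zero.1 (hext _ fun m => by
    have htel : ∀ J, r J = x - ∑ j ∈ Finset.range J, ∑ i, g i • y j (r j) i := by
      intro J
      induction J with
      | zero => simp [r]
      | succ J ih =>
        rw [Finset.sum_range_succ, ← sub_sub, ← ih]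
    have h0 : pr m (r (m + 1)) = 0 := by
      rw [← hpr (show m ≤ n + (m + 1) by omega), hr, map_zero]
    rw [htel (m + 1), map_sub, map_sum, sub_eq_zero] at h0
    rw [map_sub, h0, map_sum, sub_eq_zero, Finset.sum_congr rfl fun j _ => map_sum (pr m) _ _,
      Finset.sum_comm]
    exact Finset.sum_congr rfl fun i _ => by rw [map_smul, hZ, Finset.smul_sum]; simp only [map_smul])
  rw [hx']
  exact Submodule.sum_mem _ fun i _ => Submodule.smul_mem_smul (hg ▸ Ideal.subset_span ⟨i, rfl⟩) trivial

end Modules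

variable {Λ : Type (u + 1)} [CommRing Λ] {X : Scheme.{u}}

/-- Sections over an object, as a functor. -/
noncomputable abbrev secF (W : X.ProEt) : EtModW.ModP Λ X ⥤ ModuleCat.{u + 1} Λ :=
  sheafToPresheaf (Scheme.ProEt.topology X) (ModuleCat.{u + 1} Λ) ⋙
    (evaluation X.ProEtᵒᵖ (ModuleCat.{u + 1} Λ)).obj (op W)

/-- A morphism of module sheaves vanishing on affine weakly contractible objects is zero. -/
theorem eq_zero_of_wc {F G : EtModW.ModP Λ X} (φ : F ⟶ G)
    (h : ∀ W : X.ProEt, IsAffine W.left → ProEtS.IsWC W → ∀ x : (secF W).obj F, ((secF W).map φ).hom x = 0) :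
    φ = 0 := by
  refine ObjectProperty.hom_ext _ (NatTrans.ext (funext fun U => ConcreteCategory.hom_ext _ _ fun x => ?_))
  obtain ⟨U⟩ := U
  have hG := (isSheaf_iff_isSheaf_of_type _ _).1
    (Presheaf.isSheaf_comp_of_isSheaf _ G.obj (forget (ModuleCat.{u + 1} Λ)) G.property)
  let S : Sieve U :=
    { arrows := fun Z g => G.obj.map g.op (φ.hom.app (op U) x) = 0
      downward_closed := fun {Z Z'} {g} hg k => by
        rw [op_comp, Functor.map_comp, ConcreteCategory.comp_apply, hg, map_zero] }
  refine (hG S (Mod48.ProLim.mem_of_wc S fun Z g hZ hZ' => ?_)).isSeparatedFor.ext fun Z g hg => ?_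
  · show G.obj.map g.op (φ.hom.app (op U) x) = 0
    rw [← NatTrans.naturality_apply]
    exact h Z hZ hZ' _
  · exact hg.trans (map_zero (G.obj.map g.op).hom).symm

variable [ProEtS.EpsCont X] (G : PS (EtModW.Mod Λ X))

/-- The pulled back system. -/
noncomputable abbrev epsSys : PS (EtModW.ModP Λ X) := G ⋙ EtModW.epsPullMod Λ X

/-- Projections of sections of the limit. -/
noncomputable abbrev prj (W : X.ProEt) (m : ℕ) :
    ((secF W).obj (limit (epsSys G)) : Type (u + 1)) →ₗ[Λ] (secF W).obj ((epsSys G).obj (op m)) :=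
  ((secF W).map (limit.π (epsSys G) (op m))).hom

/-- Transition maps on sections. -/
noncomputable abbrev trs (W : X.ProEt) {a b : ℕ} (h : a ≤ b) :
    ((secF W).obj ((epsSys G).obj (op b)) : Type (u + 1)) →ₗ[Λ] (secF W).obj ((epsSys G).obj (op a)) :=
  ((secF W).map (tr (epsSys G) h)).hom

theorem trs_prj (W : X.ProEt) {a b : ℕ} (h : a ≤ b) (x : (secF W).obj (limit (epsSys G))) :
    trs G W h (prj G W b x) = prj G W a x :=
  ConcreteCategory.congr_hom (((secF W).map_comp _ _).symm.trans
    (congrArg (secF W).map (limit.w (epsSys G) (homOfLE h).op))) x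

theorem prj_ext (W : X.ProEt) (x : (secF W).obj (limit (epsSys G))) (h : ∀ m, prj G W m x = 0) : x = 0 :=
  Concrete.isLimit_ext _ (isLimitOfPreserves (secF W) (limit.isLimit (epsSys G))) _ _ fun j => by
    obtain ⟨m⟩ := j
    exact (h m).trans (map_zero (prj G W m)).symm

theorem exists_sect (W : X.ProEt) (z : ∀ m, (secF W).obj ((epsSys G).obj (op m)))
    (hz : ∀ m, trs G W m.le_succ (z (m + 1)) = z m) :
    ∃ x : (secF W).obj (limit (epsSys G)), ∀ m, prj G W m x = z m := by
  let c : ∀ j : ℕᵒᵖ, ModuleCat.of Λ Λ ⟶ (epsSys G ⋙ secF W).obj j := fun j =>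
    ModuleCat.ofHom (X := Λ) (LinearMap.toSpanSingleton Λ _ (z j.unop))
  have hc : ∀ {a b : ℕ} (h : a ≤ b), trs G W h (z b) = z a := by
    intro a b h
    induction h with
    | refl =>
      have : tr (epsSys G) (le_refl a) = 𝟙 _ := (epsSys G).map_id _
      show ((secF W).map (tr (epsSys G) (le_refl a))).hom (z a) = z a
      rw [this, (secF W).map_id]
      rfl
    | @step b h ih =>
      rw [← ih, ← hz b]
      refine (ConcreteCategory.congr_hom (congrArg (secF W).map
        (show tr (epsSys G) (le_trans h b.le_succ) = tr (epsSys G) b.le_succ ≫ tr (epsSys G) h from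
          (epsSys G).map_comp _ _)) _).trans ?_
      rw [Functor.map_comp]
      rfl
  let s : Cone (epsSys G ⋙ secF W) :=
    { pt := ModuleCat.of Λ Λ
      π := { app := c
             naturality := fun i j f => ModuleCat.hom_ext (LinearMap.ext_ring (by
              show (1 : Λ) • z j.unop = ((secF W).map ((epsSys G).map f)).hom ((1 : Λ) • z i.unop)
              rw [one_smul, one_smul]
              exact (hc (leOfHom f.unop)).symm)) } }
  let hl := isLimitOfPreserves (secF W) (limit.isLimit (epsSys G))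
  exact ⟨(hl.lift s).hom (1 : Λ), fun m =>
    (ConcreteCategory.congr_hom (hl.fac s (op m)) (1 : Λ)).trans (one_smul Λ (z m))⟩

variable {G} {I : Ideal Λ}

theorem surjective_prj (hI : I.FG) (hG : IsAdic I G) {W : X.ProEt} (hW : ProEtS.IsWC W) (n : ℕ) :
    Function.Surjective (prj G W n) := by
  intro y
  have h1 : ∀ m, Function.Surjective (trs G W (Nat.le_succ m)) := fun m =>
    (sections_isQuot hI.pow (EtModAR45.isQuot_map (EtModW.epsPullMod Λ X) hI.pow (hG.2 m (m + 1) m.le_succ)) hW).1
  obtain ⟨z, hz, hzn⟩ := Mod48.exists_compatible n (fun m => ((secF W).obj ((epsSys G).obj (op m)) : Type (u + 1)))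
    (fun m => (trs G W m.le_succ).toAddMonoidHom) (fun m _ => h1 m) y
  obtain ⟨x, hx⟩ := exists_sect G W z hz
  exact ⟨x, (hx n).trans hzn⟩

theorem ker_prj (hI : I.FG) (hG : IsAdic I G) {W : X.ProEt} (hW : ProEtS.IsWC W) (n : ℕ) :
    LinearMap.ker (prj G W n) ≤ I ^ (n + 1) • (⊤ : Submodule Λ ((secF W).obj (limit (epsSys G)))) :=
  ker_proj_le (prj G W) (trs G W) (trs_prj G W) (prj_ext G W) (exists_sect G W) (surjective_prj hI hG hW)
    (fun {a b} h => (sections_isQuot hI.pow
      (EtModAR45.isQuot_map (EtModW.epsPullMod Λ X) hI.pow (hG.2 a b h)) hW).2.le)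
    (fun m c hc x => by
      have := ConcreteCategory.congr_hom (congrArg (secF W).map
        (EtModAR45.killedBy_map (EtModW.epsPullMod Λ X) (hG.1 m) c hc)) x
      exact this)
    n hI.pow

/-- The projection from the limit of an adic system is the reduction map. -/
theorem isQuot_limit_π (hI : I.FG) (hG : IsAdic I G) (n : ℕ) :
    IsQuot (I ^ (n + 1)) (limit.π (epsSys G) (op n)) := by
  let p := limit.π (epsSys G) (op n)
  have hk : KilledBy (I ^ (n + 1)) ((epsSys G).obj (op n)) :=
    EtModAR45.killedBy_map (EtModW.epsPullMod Λ X) (hG.1 n)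
  have : Epi p := by
    refine Preadditive.epi_of_cokernel_zero (eq_zero_of_wc _ fun W _ hW y => ?_)
    obtain ⟨x, rfl⟩ := surjective_prj hI hG hW n y
    exact (ConcreteCategory.congr_hom ((secF W).map_comp _ _).symm x).trans
      (ConcreteCategory.congr_hom (congrArg (secF W).map (cokernel.condition p)) x)
  refine ⟨hk, fun Y φ hφ => ?_⟩
  have hker : kernel.ι p ≫ φ = 0 := eq_zero_of_wc _ fun W _ hW x => by
    rw [(secF W).map_comp]
    show ((secF W).map φ).hom (((secF W).map (kernel.ι p)).hom x) = 0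
    refine Submodule.smul_induction_on (ker_prj hI hG hW n (x := ((secF W).map (kernel.ι p)).hom x) ?_)
      (fun a ha m _ => ?_) fun a b ha hb => by rw [map_add, ha, hb, add_zero]
    · exact (ConcreteCategory.congr_hom ((secF W).map_comp _ _).symm x).trans
        (ConcreteCategory.congr_hom (congrArg (secF W).map (kernel.condition p)) x)
    · rw [map_smul]
      exact ConcreteCategory.congr_hom (congrArg (secF W).map (hφ a ha)) m
  let hc := Abelian.epiIsCokernelOfKernel _ (kernelIsKernel p)
  obtain ⟨ψ, hψ⟩ := CokernelCofork.IsColimit.desc' hc φ hker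
  exact ⟨ψ, hψ, fun ψ' hψ' => (cancel_epi p).1 (hψ'.trans hψ.symm)⟩

end Groth.Agent.EtModW45
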