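import Groth.Agent.EtModW45.AdicLimit
import Groth.Agent.AR46.Systems

/-!
The limit functor to the pro-etale site is exact on sequences with kernel adic up to translation.
-/

set_option autoImplicit false
set_option backward.isDefEq.respectTransparency.types false
universe u

open CategoryTheory CategoryTheory.Limits AlgebraicGeometry Opposite ARSys Groth.Agent.AR46

namespace Groth.Agent.EtModW45

variable {Λ : Type (u + 1)} [CommRing Λ] [IsNoetherianRing Λ] {I : Ideal Λ} {X : Scheme.{u}} [ProEtS.EpsCont X]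

omit [IsNoetherianRing Λ] [ProEtS.EpsCont X] in
/-- A transition map on sections. -/
lemma secF_tr_tr (W : X.ProEt) (P : PS (EtModW.ModP Λ X)) {a b c : ℕ} (h : a ≤ b) (h' : b ≤ c)
    (x : (secF W).obj (P.obj (op c))) :
    ((secF W).map (tr P h)).hom (((secF W).map (tr P h')).hom x) = ((secF W).map (tr P (h.trans h'))).hom x :=
  ConcreteCategory.congr_hom (((secF W).map_comp _ _).symm.trans (congrArg (secF W).map (AR46.tr_tr P h h'))) x

/-- Sections of a system adic up to translation satisfy the uniform Mittag-Leffler condition. -/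
theorem exists_sect_lift {A : PS (EtModW.Mod Λ X)}
    (hA : ∃ (Y : PS (EtModW.Mod Λ X)) (v : Y ⟶ A), IsAdic I Y ∧ IsARIso v) {W : X.ProEt} (hW : ProEtS.IsWC W) :
    ∃ r, ∀ (n s : ℕ), r ≤ s → ∀ x : (secF W).obj ((epsSys A).obj (op (n + r))),
      ∃ y : (secF W).obj ((epsSys A).obj (op (n + s))),
        ((secF W).map (tr (epsSys A) (Nat.le_add_right n s))).hom y =
          ((secF W).map (tr (epsSys A) (Nat.le_add_right n r))).hom x := by
  obtain ⟨Y, v, hY, hv⟩ := hA
  let Φ := EtModW.epsPullMod Λ X ⋙ secF W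
  have hstr : IsStrict (Y ⋙ Φ) := fun a b h => by
    refine (ModuleCat.epi_iff_surjective _).2 ?_
    exact (sections_isQuot (IsNoetherian.noetherian _)
      (EtModAR45.isQuot_map (EtModW.epsPullMod Λ X) (IsNoetherian.noetherian _) (hY.2 a b h)) hW).1
  obtain ⟨r, hr⟩ := isMLAR_iff.1 (isMLAR_of_strict_arIso hstr (EtModAR45.isARIso_map Φ hv))
  refine ⟨r, fun n s hs x => ?_⟩
  obtain ⟨T', e, he, t, ht⟩ := (image_factors_iff _).1 (hr s hs n)
  obtain ⟨x', rfl⟩ := (ModuleCat.epi_iff_surjective e).1 he x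
  exact ⟨t.hom x', (ConcreteCategory.congr_hom ht x').symm⟩

/-- The lifting property of sections saying that the kernel satisfies Mittag-Leffler. -/
def SectLift (A : PS (EtModW.Mod Λ X)) : Prop :=
  ∀ {W : X.ProEt}, ProEtS.IsWC W → ∃ r, ∀ (n s : ℕ), r ≤ s → ∀ x : (secF W).obj ((epsSys A).obj (op (n + r))),
    ∃ y : (secF W).obj ((epsSys A).obj (op (n + s))),
      ((secF W).map (tr (epsSys A) (Nat.le_add_right n s))).hom y =
        ((secF W).map (tr (epsSys A) (Nat.le_add_right n r))).hom x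

omit [IsNoetherianRing Λ] in
/-- The map of limits is an epimorphism when the kernel satisfies Mittag-Leffler. -/
theorem epi_limMap_of_sectLift {S : ShortComplex (PS (EtModW.Mod Λ X))} (hS : S.ShortExact)
    (hA : SectLift S.X₁) :
    Epi (limMap (Functor.whiskerRight S.g (EtModW.epsPullMod Λ X))) := by
  let L := EtModW.epsPullMod Λ X
  let q := limMap (Functor.whiskerRight S.g L)
  refine Preadditive.epi_of_cokernel_zero (eq_zero_of_wc _ fun W _ hW c => ?_)
  suffices ∃ b, ((secF W).map q).hom b = c by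
    obtain ⟨b, rfl⟩ := this
    exact (ConcreteCategory.congr_hom ((secF W).map_comp _ _).symm b).trans
      (ConcreteCategory.congr_hom (congrArg (secF W).map (cokernel.condition q)) b)
  have hterm : ∀ m : ℕ, ((S.map ((evaluation ℕᵒᵖ (EtModW.Mod Λ X)).obj (op m))).map L).ShortExact := fun m =>
    (hS.map_of_exact _).map_of_exact L
  let fA : ∀ m, ((secF W).obj ((epsSys S.X₁).obj (op m)) : Type (u + 1)) →ₗ[Λ] (secF W).obj ((epsSys S.X₂).obj (op m)) :=
    fun m => ((secF W).map (L.map (S.f.app (op m)))).hom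
  let gB : ∀ m, ((secF W).obj ((epsSys S.X₂).obj (op m)) : Type (u + 1)) →ₗ[Λ] (secF W).obj ((epsSys S.X₃).obj (op m)) :=
    fun m => ((secF W).map (L.map (S.g.app (op m)))).hom
  have hg : ∀ m, Function.Surjective (gB m) := fun m =>
    have : Epi (L.map (S.g.app (op m))) := (hterm m).epi_g
    surjective_of_epi_mod (L.map (S.g.app (op m))) hW
  have hex : ∀ m b, gB m b = 0 → ∃ a, fA m a = b := fun m b hb => by
    have : PreservesFiniteLimits (secF W : EtModW.ModP Λ X ⥤ _) := comp_preservesFiniteLimits _ _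
    have h := ((Functor.preservesFiniteLimits_iff_forall_exact_map_and_mono (secF W)).1 inferInstance _ (hterm m)).1
    exact h.moduleCat_range_eq_ker.ge hb
  have hnat : ∀ {P P' : PS (EtModW.Mod Λ X)} (φ : P ⟶ P') {a b : ℕ} (h : a ≤ b)
      (x : (secF W).obj ((epsSys P).obj (op b))),
      ((secF W).map (tr (epsSys P') h)).hom (((secF W).map (L.map (φ.app (op b)))).hom x) =
        ((secF W).map (L.map (φ.app (op a)))).hom (((secF W).map (tr (epsSys P) h)).hom x) :=
    fun {P P'} φ {a b} h x => ConcreteCategory.congr_hom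
      (((secF W).map_comp _ _).symm.trans ((congrArg (secF W).map
        ((Functor.whiskerRight φ L).naturality (homOfLE h).op).symm).trans ((secF W).map_comp _ _))) x
  obtain ⟨r, hr⟩ := hA hW
  choose b hb using fun m => hg m (prj S.X₃ W m c)
  let β : ∀ n, ((secF W).obj ((epsSys S.X₂).obj (op n)) : Type (u + 1)) := fun n =>
    ((secF W).map (tr (epsSys S.X₂) (Nat.le_add_right n r))).hom (b (n + r))
  have hβ : ∀ n, gB n (β n) = prj S.X₃ W n c := fun n => by
    refine (hnat S.g (Nat.le_add_right n r) (b (n + r))).symm.trans ?_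
    rw [show ((secF W).map (L.map (S.g.app (op (n + r))))).hom (b (n + r)) = prj S.X₃ W (n + r) c from hb _]
    exact trs_prj S.X₃ W _ c
  let Im : ∀ n, Submodule Λ ((secF W).obj ((epsSys S.X₁).obj (op n)) : Type (u + 1)) := fun n =>
    LinearMap.range ((secF W).map (tr (epsSys S.X₁) (Nat.le_add_right n r))).hom
  have hd : ∀ n, ∃ d ∈ Im n, trs S.X₂ W n.le_succ (β (n + 1)) - β n = fA n d := fun n => by
    have h0 : gB (n + r) (((secF W).map (tr (epsSys S.X₂) (show n + r ≤ n + 1 + r by omega))).hom (b (n + 1 + r)) -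
        b (n + r)) = 0 := by
      rw [map_sub, sub_eq_zero, hb]
      refine (hnat S.g _ _).symm.trans ?_
      rw [show ((secF W).map (L.map (S.g.app (op (n + 1 + r))))).hom (b (n + 1 + r)) = prj S.X₃ W _ c from hb _]
      exact trs_prj S.X₃ W _ c
    obtain ⟨a, ha⟩ := hex _ _ h0
    refine ⟨_, ⟨a, rfl⟩, Eq.trans ?_ (hnat S.f (Nat.le_add_right n r) a)⟩
    rw [show ((secF W).map (L.map (S.f.app (op (n + r))))).hom a = _ from ha, map_sub]
    refine congrArg (· - β n) ?_
    exact (secF_tr_tr W _ _ _ _).trans (secF_tr_tr W _ _ _ _).symm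
  choose d hdI hd using hd
  have htI : ∀ n, ∀ x ∈ Im (n + 1), trs S.X₁ W n.le_succ x ∈ Im n := by
    rintro n _ ⟨a, rfl⟩
    exact ⟨((secF W).map (tr (epsSys S.X₁) (show n + r ≤ n + 1 + r by omega))).hom a,
      (secF_tr_tr W _ _ _ _).trans (secF_tr_tr W _ _ _ _).symm⟩
  obtain ⟨h, hh⟩ := Mod48.exists_sub_eq 0 (fun n => ↥(Im n))
    (fun n => (((trs S.X₁ W n.le_succ).restrict (htI n)).toAddMonoidHom : ↥(Im (n + 1)) →+ ↥(Im n)))
    (fun n _ => by
      rintro ⟨_, a, rfl⟩
      obtain ⟨y, hy⟩ := hr n (1 + r) (by omega) a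
      refine ⟨⟨_, ((secF W).map (tr (epsSys S.X₁) (show n + 1 + r ≤ n + (1 + r) by omega))).hom y, rfl⟩,
        Subtype.ext ?_⟩
      refine Eq.trans ?_ hy
      exact ((congrArg _ (secF_tr_tr W _ _ _ _)).trans (secF_tr_tr W _ _ _ _)))
    (fun n => ⟨d n, hdI n⟩)
  obtain ⟨x, hx⟩ := exists_sect S.X₂ W (fun n => β n + fA n (h n : _)) fun n => by
    have h1 : trs S.X₁ W n.le_succ (h (n + 1) : _) = (h n : _) - d n := by
      rw [eq_sub_iff_add_eq, ← eq_sub_iff_add_eq']
      exact (congrArg Subtype.val (hh n)).symm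
    rw [map_add, show trs S.X₂ W n.le_succ (fA (n + 1) (h (n + 1) : _)) = fA n (trs S.X₁ W n.le_succ (h (n + 1) : _))
      from hnat S.f n.le_succ _, h1, map_sub, ← hd]
    abel
  refine ⟨x, sub_eq_zero.1 (prj_ext S.X₃ W _ fun m => ?_)⟩
  rw [map_sub, sub_eq_zero]
  refine (ConcreteCategory.congr_hom (((secF W).map_comp _ _).symm.trans ((congrArg (secF W).map
    (limMap_π (Functor.whiskerRight S.g L) (op m))).trans ((secF W).map_comp _ _))) x).trans ?_
  show gB m (prj S.X₂ W m x) = _
  rw [hx, map_add, hβ]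
  refine add_eq_left.2 ?_
  exact ConcreteCategory.congr_hom (((secF W).map_comp _ _).symm.trans (congrArg (secF W).map
    ((L.map_comp _ _).symm.trans ((congrArg L.map (congr_app S.zero (op m))).trans (L.map_zero _ _))))) (Subtype.val (h m))

/-- The map of limits is an epimorphism. -/
theorem epi_limMap {S : ShortComplex (PS (EtModW.Mod Λ X))} (hS : S.ShortExact)
    (hA : ∃ (Y : PS (EtModW.Mod Λ X)) (v : Y ⟶ S.X₁), IsAdic I Y ∧ IsARIso v) :
    Epi (limMap (Functor.whiskerRight S.g (EtModW.epsPullMod Λ X))) :=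
  epi_limMap_of_sectLift hS fun hW => exists_sect_lift hA hW

end Groth.Agent.EtModW45
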