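import Mathlib.Algebra.Category.ModuleCat.Sheaf.Abelian
import Mathlib.Algebra.Category.ModuleCat.Colimits
import Mathlib.Algebra.Category.ModuleCat.Limits
import Mathlib.Algebra.Category.ModuleCat.FilteredColimits
import Mathlib.CategoryTheory.Sites.Pullback
import Mathlib.CategoryTheory.Sites.PreservesSheafification
import Mathlib.CategoryTheory.Functor.KanExtension.Preserves
import Mathlib.CategoryTheory.Yoneda
import Groth.Prelude.Def_SiteColimFix

/-!
The inverse image of sheaves of modules commutes with the underlying abelian sheaf.
-/

set_option autoImplicit false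
set_option backward.isDefEq.respectTransparency.types false
universe w v u

open CategoryTheory CategoryTheory.Limits Opposite

namespace Groth.Agent.EtModW45

variable {C : Type w} [Category.{v} C] {D : Type w} [Category.{v} D] (G : C ⥤ D)
variable {A : Type u} [Category.{w} A] {B : Type u} [Category.{w} B] (U : A ⥤ B)
variable (J : GrothendieckTopology C) (K : GrothendieckTopology D) [G.IsContinuous J K]
  [J.HasSheafCompose U] [K.HasSheafCompose U]
  [(G.sheafPushforwardContinuous A J K).IsRightAdjoint] [(G.sheafPushforwardContinuous B J K).IsRightAdjoint]

/-- The comparison of the two inverse images. -/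
noncomputable def pullCompare :
    sheafCompose J U ⋙ G.sheafPullback B J K ⟶ G.sheafPullback A J K ⋙ sheafCompose K U where
  app F := ((G.sheafAdjunctionContinuous B J K).homEquiv _ _).symm
    ((sheafCompose J U).map ((G.sheafAdjunctionContinuous A J K).unit.app F))
  naturality F F' φ := by
    apply ((G.sheafAdjunctionContinuous B J K).homEquiv _ _).injective
    refine ((G.sheafAdjunctionContinuous B J K).homEquiv_naturality_left _ _).trans ?_
    refine Eq.trans ?_ ((G.sheafAdjunctionContinuous B J K).homEquiv_naturality_right _ _).symm
    rw [Equiv.apply_symm_apply, Equiv.apply_symm_apply]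
    refine ((sheafCompose J U).map_comp _ _).symm.trans ?_
    refine (congrArg (sheafCompose J U).map ((G.sheafAdjunctionContinuous A J K).unit.naturality φ)).trans ?_
    exact (sheafCompose J U).map_comp _ _

lemma unit_pullCompare (F : Sheaf J A) :
    (G.sheafAdjunctionContinuous B J K).unit.app ((sheafCompose J U).obj F) ≫
        (G.sheafPushforwardContinuous B J K).map ((pullCompare G U J K).app F) =
      (sheafCompose J U).map ((G.sheafAdjunctionContinuous A J K).unit.app F) :=
  ((G.sheafAdjunctionContinuous B J K).homEquiv_unit _ _ _).symm.trans (Equiv.apply_symm_apply _ _)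

variable [∀ F : Cᵒᵖ ⥤ A, G.op.HasLeftKanExtension F] [U.PreservesLeftKanExtensions G.op]
  [HasWeakSheafify K A] [K.PreservesSheafification U]

/-- The comparison of the two inverse images is invertible. -/
theorem isIso_pullCompare (F : Sheaf J A) : IsIso ((pullCompare G U J K).app F) := by
  let adjA := G.sheafAdjunctionContinuous A J K
  let adjB := G.sheafAdjunctionContinuous B J K
  let adjA' := Functor.sheafPullbackConstruction.sheafAdjunctionContinuous G A J K
  let e : (G.sheafPullback A J K).obj F ≅ _ :=
    (Functor.sheafPullbackConstruction.sheafPullbackIso G A J K).app F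
  let L := G.op.leftKanExtension F.obj
  let α : F.obj ⋙ U ⟶ G.op ⋙ L ⋙ U :=
    Functor.whiskerRight (G.op.leftKanExtensionUnit F.obj) U ≫ (Functor.associator _ _ _).hom
  have : (L ⋙ U).IsLeftKanExtension α := Functor.PreservesLeftKanExtension.preserves L _
  let t := Functor.whiskerRight (toSheafify K L) U
  have ht : K.W t := K.W_of_preservesSheafification U _ (K.W_toSheafify L)
  have hu : adjA'.unit.app F = (adjA.unit.app F ≫ (G.sheafPushforwardContinuous A J K).map e.hom) :=
    (Adjunction.unit_leftAdjointUniq_hom_app adjA adjA' F).symm
  refine (isIso_iff_coyoneda_map_bijective _).2 fun H => ?_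
  let Φ : ((sheafCompose K U).obj ((G.sheafPullback A J K).obj F) ⟶ H) → ((sheafCompose J U).obj F ⟶
      (G.sheafPushforwardContinuous B J K).obj H) := fun k =>
    (sheafCompose J U).map (adjA.unit.app F) ≫ (G.sheafPushforwardContinuous B J K).map k
  let Φ' : ((sheafCompose K U).obj ((Functor.sheafPullbackConstruction.sheafPullback G A J K).obj F) ⟶ H) →
      ((sheafCompose J U).obj F ⟶ (G.sheafPushforwardContinuous B J K).obj H) := fun k =>
    (sheafCompose J U).map (adjA'.unit.app F) ≫ (G.sheafPushforwardContinuous B J K).map k
  have hb : Function.Bijective Φ := by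
    have hb' : Function.Bijective Φ' := by
      have h1 : Function.Bijective fun k : (sheafCompose K U).obj
          ((Functor.sheafPullbackConstruction.sheafPullback G A J K).obj F) ⟶ H =>
            α ≫ Functor.whiskerLeft G.op (t ≫ k.hom) :=
        (((L ⋙ U).homEquivOfIsLeftKanExtension α H.obj).bijective.comp
          (ht _ H.property)).comp ((fullyFaithfulSheafToPresheaf K B).map_bijective
            ((sheafCompose K U).obj ((Functor.sheafPullbackConstruction.sheafPullback G A J K).obj F)) H)
      have h2 : ∀ k, (Φ' k).hom = α ≫ Functor.whiskerLeft G.op (t ≫ k.hom) := fun k => by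
        show Functor.whiskerRight (adjA'.unit.app F).hom U ≫ Functor.whiskerLeft G.op k.hom = _
        have hη : (adjA'.unit.app F).hom =
            G.op.leftKanExtensionUnit F.obj ≫ Functor.whiskerLeft G.op (toSheafify K L) := by
          have := ((G.op.lanAdjunction A).comp (sheafificationAdjunction K A)).map_restrictFullyFaithful_unit_app
            (fullyFaithfulSheafToPresheaf J A) (Functor.FullyFaithful.id _)
            (L := Functor.sheafPullbackConstruction.sheafPullback G A J K)
            (R := G.sheafPushforwardContinuous A J K) (Iso.refl _) (Iso.refl _) F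
          refine this.trans ?_
          refine Eq.trans (congrArg (CategoryStruct.comp _) ((Category.comp_id _).trans (CategoryTheory.Functor.map_id _ _)))
            ((Category.comp_id _).trans ?_)
          rw [Adjunction.comp_unit_app]
          exact congrArg (fun τ => τ ≫ Functor.whiskerLeft G.op (toSheafify K L))
            (NatTrans.congr_app (Functor.lanAdjunction_unit G.op A) F.obj)
        rw [hη]
        ext c
        exact (congrArg (· ≫ k.hom.app _) (U.map_comp _ _)).trans ((Category.assoc _ _ _).trans (by simp [α, t, L] <;> rfl))
      exact (Function.Bijective.of_comp_iff'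
        ((fullyFaithfulSheafToPresheaf J B).map_bijective _ _) Φ').1
        ((congrArg Function.Bijective (funext h2)).mpr h1)
    have he : Φ = Φ' ∘ fun k => (sheafCompose K U).map e.inv ≫ k := by
      funext k
      have h3 : (sheafCompose J U).map (adjA'.unit.app F) =
          (sheafCompose J U).map (adjA.unit.app F) ≫
            (G.sheafPushforwardContinuous B J K).map ((sheafCompose K U).map e.hom) :=
        (congrArg (sheafCompose J U).map hu).trans ((sheafCompose J U).map_comp _ _)
      have h4 : (G.sheafPushforwardContinuous B J K).map ((sheafCompose K U).map e.hom) ≫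
          (G.sheafPushforwardContinuous B J K).map ((sheafCompose K U).map e.inv ≫ k) =
          (G.sheafPushforwardContinuous B J K).map k :=
        ((G.sheafPushforwardContinuous B J K).map_comp _ _).symm.trans
          (congrArg (G.sheafPushforwardContinuous B J K).map
            ((((sheafCompose K U).mapIso e).hom_inv_id_assoc k)))
      exact ((congrArg (· ≫ _) h3).trans ((Category.assoc _ _ _).trans (congrArg (_ ≫ ·) h4))).symm
    rw [he]
    exact hb'.comp ⟨fun a b h => (cancel_epi _).1 h, fun y => ⟨(sheafCompose K U).map e.hom ≫ y,
      ((sheafCompose K U).mapIso e).inv_hom_id_assoc y⟩⟩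
  have : (fun k => (pullCompare G U J K).app F ≫ k) = (adjB.homEquiv _ H).symm ∘ Φ := by
    funext k
    exact (adjB.homEquiv_naturality_right_symm _ _).symm
  rw [this]
  exact (adjB.homEquiv _ H).symm.bijective.comp hb

end Groth.Agent.EtModW45
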