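import Groth.Agent.S14016
import Groth.Agent.S0743
import Groth.Agent.Mod48.ProEtRecollement
import Groth.Agent.Mod48.ProEtPush
import Groth.Agent.Mod48.ProEtBaseChange
import Groth.Agent.EtCore45.EtalePull
import Groth.Agent.ProEt91.OpenImm
import Mathlib.CategoryTheory.Abelian.RightDerived
import Mathlib.CategoryTheory.Adjunction.Mates

/-!
The essential image of pullback to the pro-etale site: stability and locality for open covers.
-/

set_option autoImplicit false
set_option backward.isDefEq.respectTransparency.types false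
universe u

open CategoryTheory CategoryTheory.Limits AlgebraicGeometry Opposite

namespace Groth.Agent.EtModW45

variable {X Y U : Scheme.{u}}

/-- Composition with a weakly etale morphism is continuous. -/
theorem jpCont (j : U ⟶ X) [WeaklyEtale j] : ProEtS.JPCont j := by
  have h1 : PreservesLimitsOfShape WalkingCospan (Over.map j) := by
    have : PreservesLimitsOfShape WalkingCospan (Over.map j ⋙ Over.forget X) :=
      inferInstanceAs (PreservesLimitsOfShape WalkingCospan (Over.forget U))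
    exact preservesLimitsOfShape_of_reflects_of_preserves (Over.map j) (Over.forget X)
  have : PreservesLimitsOfShape WalkingCospan (ProEtS.compP j ⋙ Scheme.ProEt.forget X) :=
    inferInstanceAs (PreservesLimitsOfShape WalkingCospan (Scheme.ProEt.forget U ⋙ Over.map j))
  have : PreservesLimitsOfShape WalkingCospan (ProEtS.compP j) :=
    preservesLimitsOfShape_of_reflects_of_preserves (ProEtS.compP j) (Scheme.ProEt.forget X)
  refine Functor.isContinuous_of_coverPreserving (EtCore45.compatiblePreserving_of_preservesPullbacks _ _)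
    ⟨fun {V S} hS => ProEt91.mem_topology_of X _ ?_⟩
  rw [← Sieve.functorPushforward_comp]
  have h2 : CoverPreserving (Scheme.ProEt.topology U) (Scheme.proetaleTopology.over X)
      (Scheme.ProEt.forget U ⋙ Over.map j) :=
    CoverPreserving.comp _ (Scheme.proetaleTopology.over U)
      (CoverPreserving.of_isContinuous (F := Scheme.ProEt.forget U) (Scheme.ProEt.topology U)
        (Scheme.proetaleTopology.over U))
      (GrothendieckTopology.over_map_coverPreserving _ j)
  exact h2.cover_preserve hS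

/-- The essential image of pullback to the pro-etale site. -/
def ImP {X : Scheme.{u}} [ProEtS.EpsCont X] (F : ProEtS.AbP X) : Prop :=
  ∃ G : EtCoh.Ab X, Nonempty ((ProEtS.epsPull X).obj G ≅ F)

variable [ProEtS.EpsCont X]

theorem ImP.of_iso {F F' : ProEtS.AbP X} (h : ImP F) (e : F ≅ F') : ImP F' :=
  let ⟨G, ⟨i⟩⟩ := h
  ⟨G, ⟨i ≪≫ e⟩⟩

theorem imP_eps (G : EtCoh.Ab X) : ImP ((ProEtS.epsPull X).obj G) := ⟨G, ⟨Iso.refl _⟩⟩

theorem isIso_counit_iff (F : ProEtS.AbP X) : IsIso ((ProEtS.epsAdj X).counit.app F) ↔ ImP F := by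
  refine ⟨fun h => ⟨_, ⟨@asIso _ _ _ _ _ h⟩⟩, fun ⟨G, ⟨e⟩⟩ => ?_⟩
  have : IsIso (ProEtS.epsAdj X).unit :=
    have : ∀ G, IsIso ((ProEtS.epsAdj X).unit.app G) := fun G => (Mod48.proEtGSite X).isIso_unit G
    NatIso.isIso_of_isIso_app _
  have := (ProEtS.epsAdj X).fullyFaithfulLOfIsIsoUnit.full
  have := (ProEtS.epsAdj X).fullyFaithfulLOfIsIsoUnit.faithful
  exact (ProEtS.epsAdj X).isIso_counit_app_of_iso e.symm

theorem ImP.extension {S : ShortComplex (ProEtS.AbP X)} (hS : S.ShortExact) (h₁ : ImP S.X₁) (h₃ : ImP S.X₃) :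
    ImP S.X₂ := by
  have : WSerre.IsWeakSerre (fun _ : EtCoh.Ab X => True) :=
    { exists_zero := ⟨_, isZero_zero _, trivial⟩
      kernels_le := fun _ _ => trivial
      cokernels_le := fun _ _ => trivial
      prop_X₂_of_shortExact := fun _ _ _ => trivial }
  obtain ⟨G, -, e⟩ := (S14016.result X (fun _ : EtCoh.Ab X => True)).prop_X₂_of_shortExact hS
    (h₁.imp fun G e => ⟨trivial, e⟩) (h₃.imp fun G e => ⟨trivial, e⟩)
  exact ⟨G, e⟩

theorem imP_of_isZero {F : ProEtS.AbP X} (hF : IsZero F) : ImP F :=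
  have := (ProEtS.epsAdj X).left_adjoint_additive
  ⟨_, ⟨((ProEtS.epsPull X).map_isZero (isZero_zero (EtCoh.Ab X))).iso hF⟩⟩

theorem ImP.push [ProEtS.EpsCont Y] (f : X ⟶ Y) [QuasiCompact f] [QuasiSeparated f] [ProEtS.PCont f]
    {F : ProEtS.AbP X} (h : ImP F) : ImP ((ProEtS.pushP f).obj F) := by
  obtain ⟨G, ⟨e⟩⟩ := h
  have : PreservesLimitsOfSize.{0, 0} (ProEtS.pushP f) := (ProEtS.pullPushAdjP f).rightAdjoint_preservesLimits
  have : PreservesFiniteLimits (ProEtS.pushP f) := PreservesLimitsOfSize.preservesFiniteLimits _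
  obtain ⟨i⟩ := Mod48.ProLim.nonempty_RpushP_iso f G 0
  exact ⟨_, ⟨i.symm ≪≫ (ProEtS.pushP f).rightDerivedZeroIsoSelf.app _ ≪≫ (ProEtS.pushP f).mapIso e⟩⟩

theorem ImP.extZero [ProEtS.EpsCont U] (j : U ⟶ X) [Etale j] [ProEtS.JPCont j]
    {F : ProEtS.AbP U} (h : ImP F) : ImP ((ProEtS.extZeroP j).obj F) := by
  obtain ⟨G, ⟨e⟩⟩ := h
  obtain ⟨i⟩ := S0743.result j G
  exact ⟨_, ⟨i ≪≫ (ProEtS.extZeroP j).mapIso e⟩⟩

/-- Inverse images commute with pullback to the pro-etale site. -/
noncomputable def pullEpsIso [ProEtS.EpsCont Y] (f : Y ⟶ X) [ProEtS.PCont f] :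
    ProEtS.epsPull X ⋙ ProEtS.pullP f ≅ EtCoh.pull f ⋙ ProEtS.epsPull Y :=
  (conjugateIsoEquiv ((EtCoh.pullPushAdj f).comp (ProEtS.epsAdj Y))
    ((ProEtS.epsAdj X).comp (ProEtS.pullPushAdjP f))).symm
    (NatIso.ofComponents (fun F => (fullyFaithfulSheafToPresheaf _ _).preimageIso
      (NatIso.ofComponents (fun E => F.obj.mapIso (Mod48.ProLim.bcEps f E.unop).op)
        fun {E E'} g => by
          refine (F.obj.map_comp _ _).symm.trans (Eq.trans ?_ (F.obj.map_comp _ _))
          exact congrArg (fun q => F.obj.map q.op) (Mod48.ProLim.bcEps_naturality f g.unop)))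
      fun {F F'} φ => by
        apply ObjectProperty.hom_ext
        apply NatTrans.ext
        funext E
        exact (φ.hom.naturality _).symm)

theorem ImP.pull [ProEtS.EpsCont Y] (f : Y ⟶ X) [ProEtS.PCont f] {F : ProEtS.AbP X} (h : ImP F) :
    ImP ((ProEtS.pullP f).obj F) := by
  obtain ⟨G, ⟨e⟩⟩ := h
  exact ⟨_, ⟨((pullEpsIso f).app G).symm ≪≫ (ProEtS.pullP f).mapIso e⟩⟩

omit [ProEtS.EpsCont X] in
/-- Inverse images compose. -/
theorem nonempty_pullP_comp {S T : Scheme.{u}} (g : S ⟶ T) (f : T ⟶ X) [ProEtS.PCont f] [ProEtS.PCont g]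
    [ProEtS.PCont (g ≫ f)] (F : ProEtS.AbP X) :
    Nonempty ((ProEtS.pullP g).obj ((ProEtS.pullP f).obj F) ≅ (ProEtS.pullP (g ≫ f)).obj F) := by
  let i : ProEtS.bcP f ⋙ ProEtS.bcP g ≅ ProEtS.bcP (g ≫ f) :=
    (MorphismProperty.Over.pullbackComp (P := @WeaklyEtale) (Q := ⊤) g f).symm
  let e : ProEtS.pushP g ⋙ ProEtS.pushP f ≅ ProEtS.pushP (g ≫ f) :=
    Functor.sheafPushforwardContinuousComp' i
      AddCommGrpCat.{u + 1} _ _ _
  exact ⟨((((ProEtS.pullPushAdjP f).comp (ProEtS.pullPushAdjP g)).ofNatIsoRight e).leftAdjointUniq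
    (ProEtS.pullPushAdjP (g ≫ f))).app F⟩

/-- Restriction and inverse image along an open immersion agree. -/
noncomputable def restrPullIso (j : U ⟶ X) [IsOpenImmersion j] [ProEtS.JPCont j] [ProEtS.PCont j] :
    ProEtS.restrP j ≅ ProEtS.pullP j :=
  (Adjunction.sheafPushforwardContinuous (F := ProEtS.compP j) (G := ProEtS.bcP j)
      (MorphismProperty.Over.mapPullbackAdj @WeaklyEtale ⊤ j (inferInstanceAs (WeaklyEtale j)) trivial)
      (E := AddCommGrpCat.{u + 1}) (Scheme.ProEt.topology U) (Scheme.ProEt.topology X)).leftAdjointUniq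
    (ProEtS.pullPushAdjP j)

/-- The counit restricts along open immersions. -/
theorem isIso_restr_counit (j : U ⟶ X) [IsOpenImmersion j] [ProEtS.EpsCont U] [ProEtS.JPCont j]
    [ProEtS.PCont j] (F : ProEtS.AbP X) (h : ImP ((ProEtS.restrP j).obj F)) :
    IsIso ((ProEtS.restrP j).map ((ProEtS.epsAdj X).counit.app F)) := by
  let ε : EtShriek.compEtale j ⋙ ProEtS.eps X ≅ ProEtS.eps U ⋙ ProEtS.compP j :=
    NatIso.ofComponents (fun V => MorphismProperty.Over.isoMk (Iso.refl _) (by simp; rfl))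
      (fun f => by apply MorphismProperty.Over.Hom.ext; simp; rfl)
  have : (ProEtS.eps U ⋙ ProEtS.compP j).IsContinuous U.smallEtaleTopology (Scheme.ProEt.topology X) :=
    Functor.isContinuous_comp _ _ _ (Scheme.ProEt.topology U) _
  let e : ProEtS.restrP j ⋙ ProEtS.epsPush U ≅ ProEtS.epsPush X ⋙ EtShriek.restrAlong j :=
    Functor.sheafPushforwardContinuousComp' (Iso.refl (ProEtS.eps U ⋙ ProEtS.compP j))
        AddCommGrpCat.{u + 1} U.smallEtaleTopology (Scheme.ProEt.topology U) (Scheme.ProEt.topology X) ≪≫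
      (Functor.sheafPushforwardContinuousComp' ε
        AddCommGrpCat.{u + 1} U.smallEtaleTopology X.smallEtaleTopology (Scheme.ProEt.topology X)).symm
  let R := ProEtS.epsPush X
  let Q := ProEtS.restrP j
  let P := EtShriek.restrAlong j
  let adjU := ProEtS.epsAdj U
  let G := R.obj F
  let L := ProEtS.epsPull X
  let t : P.obj G ⟶ (ProEtS.epsPush U).obj (Q.obj (L.obj G)) :=
    P.map ((ProEtS.epsAdj X).unit.app G) ≫ e.inv.app (L.obj G)
  let θ := (adjU.homEquiv _ _).symm t
  have hQ : IsIso (adjU.counit.app (Q.obj (L.obj G))) :=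
    (isIso_counit_iff _).2 (((imP_eps G).pull j).of_iso ((restrPullIso j).app _).symm)
  have : IsIso ((ProEtS.epsAdj X).unit.app G) := (Mod48.proEtGSite X).isIso_unit G
  have : IsIso t := inferInstanceAs (IsIso (P.map ((ProEtS.epsAdj X).unit.app G) ≫ e.inv.app (L.obj G)))
  have hθ : IsIso θ := by
    have h1 : θ = (ProEtS.epsPull U).map t ≫ adjU.counit.app (Q.obj (L.obj G)) := adjU.homEquiv_counit _ _ t
    rw [h1]
    infer_instance
  have key : θ ≫ Q.map ((ProEtS.epsAdj X).counit.app F) =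
      (ProEtS.epsPull U).map (e.inv.app F) ≫ adjU.counit.app (Q.obj F) := by
    refine Eq.trans ?_ (adjU.homEquiv_counit _ _ _)
    refine (adjU.homEquiv_naturality_right_symm t (Q.map ((ProEtS.epsAdj X).counit.app F))).symm.trans ?_
    refine congrArg (adjU.homEquiv _ _).symm ?_
    refine (Category.assoc _ _ _).trans ?_
    refine (congrArg (CategoryStruct.comp _) (e.inv.naturality ((ProEtS.epsAdj X).counit.app F)).symm).trans ?_
    refine (Category.assoc _ _ _).symm.trans ?_
    refine (congrArg (· ≫ e.inv.app F) ((P.map_comp _ _).symm.trans ((congrArg P.map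
      ((ProEtS.epsAdj X).right_triangle_components F)).trans (P.map_id _)))).trans (Category.id_comp _)
  have : IsIso (adjU.counit.app (Q.obj F)) := (isIso_counit_iff _).2 h
  have : IsIso (θ ≫ Q.map ((ProEtS.epsAdj X).counit.app F)) := by
    rw [key]
    infer_instance
  exact IsIso.of_isIso_comp_left θ _

omit [ProEtS.EpsCont X] in
/-- Restrictions to an open cover detect zero sheaves. -/
theorem isZero_of_restr_cover {ι : Type u} (V : ι → X.Opens) (hV : ∀ x : X, ∃ i, x ∈ V i)
    (hj : ∀ i, ProEtS.JPCont (V i).ι) (A : ProEtS.AbP X)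
    (h : ∀ i, IsZero ((ProEtS.restrP (V i).ι).obj A)) : IsZero A := by
  refine Mod48.ProLim.isZero_of_subsingleton fun W _ _ => subsingleton_of_forall_eq 0 fun t => ?_
  let O : ι → W.left.Opens := fun i => W.hom ⁻¹ᵁ V i
  let T := (sheafCompose (Scheme.ProEt.topology X) (forget AddCommGrpCat.{u + 1})).obj A
  refine ((isSheaf_iff_isSheaf_of_type _ _).1 T.property _
    (ProEt91.openCover_mem O fun x => hV (W.hom x))).isSeparatedFor.ext fun W' q hq => ?_
  obtain ⟨_, b, _, ⟨i⟩, rfl⟩ := hq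
  show A.obj.map _ t = A.obj.map _ 0
  rw [map_zero, op_comp, Functor.map_comp, ConcreteCategory.comp_apply]
  refine (congrArg (A.obj.map b.op) ?_).trans (map_zero _)
  have hsub : Subsingleton (A.obj.obj (op (ProEt91.openObj W (O i)))) := by
    have : WeaklyEtale (W.hom ∣_ V i) :=
      MorphismProperty.of_isPullback (P := @WeaklyEtale) (isPullback_morphismRestrict W.hom (V i)).flip W.prop
    let W'' : (V i).toScheme.ProEt := Scheme.ProEt.mk (W.hom ∣_ V i)
    let d : (ProEtS.compP (V i).ι).obj W'' ≅ ProEt91.openObj W (O i) :=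
      MorphismProperty.Over.isoMk (Iso.refl _) ((Category.id_comp _).trans (morphismRestrict_ι W.hom (V i)).symm)
    have h0 : IsZero (A.obj.obj (op ((ProEtS.compP (V i).ι).obj W''))) :=
      ((evaluation _ AddCommGrpCat.{u + 1}).obj (op W'')).map_isZero
        ((sheafToPresheaf _ AddCommGrpCat.{u + 1}).map_isZero (h i))
    exact AddCommGrpCat.subsingleton_of_isZero (h0.of_iso (A.obj.mapIso d.op))
  exact hsub.elim _ _

/-- Belonging to the essential image is local for the Zariski topology. -/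
theorem imP_of_restr_cover {ι : Type u} (V : ι → X.Opens) (hV : ∀ x : X, ∃ i, x ∈ V i)
    (hc : ∀ i, ProEtS.EpsCont (V i).toScheme) (hj : ∀ i, ProEtS.JPCont (V i).ι) {F : ProEtS.AbP X}
    (h : ∀ i, ImP ((ProEtS.restrP (V i).ι).obj F)) : ImP F := by
  refine (isIso_counit_iff F).1 ?_
  let c := (ProEtS.epsAdj X).counit.app F
  have hc' : ∀ i, IsIso ((ProEtS.restrP (V i).ι).map c) := fun i =>
    have := ProEt91.pCont (V i).ι
    isIso_restr_counit (V i).ι F (h i)
  have hl : ∀ i, PreservesFiniteLimits (ProEtS.restrP (V i).ι) := fun i => by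
    have : PreservesLimitsOfSize.{0, 0} (ProEtS.restrP (V i).ι) :=
      (ProEtS.extZeroPAdj (V i).ι).rightAdjoint_preservesLimits
    exact PreservesLimitsOfSize.preservesFiniteLimits _
  have hr : ∀ i, PreservesFiniteColimits (ProEtS.restrP (V i).ι) := fun i => by
    have := ProEt91.pCont (V i).ι
    have : (ProEtS.restrP (V i).ι).IsLeftAdjoint :=
      ((ProEtS.pullPushAdjP (V i).ι).ofNatIsoLeft (restrPullIso (V i).ι).symm).isLeftAdjoint
    infer_instance
  have : Mono c := Preadditive.mono_of_kernel_zero ((isZero_of_restr_cover V hV hj _ fun i =>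
    (isZero_kernel_of_mono ((ProEtS.restrP (V i).ι).map c)).of_iso (PreservesKernel.iso _ c)).eq_of_src _ _)
  have : Epi c := Preadditive.epi_of_cokernel_zero ((isZero_of_restr_cover V hV hj _ fun i =>
    (isZero_cokernel_of_epi ((ProEtS.restrP (V i).ι).map c)).of_iso (PreservesCokernel.iso _ c)).eq_of_tgt _ _)
  exact isIso_of_mono_of_epi c

end Groth.Agent.EtModW45
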