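import Groth.Agent.EtModW45.ImageLocal
import Groth.Agent.Cons51.Reduced

/-!
A sheaf which is pulled back from the etale site on each stratum is pulled back from the etale site.
-/

set_option autoImplicit false
set_option backward.isDefEq.respectTransparency.types false
universe u

open CategoryTheory CategoryTheory.Limits AlgebraicGeometry Opposite

namespace Groth.Agent.EtModW45

variable {X S : Scheme.{u}}

/-- Sheaves on the empty scheme are zero. -/
theorem isZero_of_isEmpty [IsEmpty S] (A : ProEtS.AbP S) : IsZero A :=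
  Mod48.ProLim.isZero_of_subsingleton fun W _ _ =>
    have : IsEmpty W.left := ⟨fun w => IsEmpty.false (α := S) (W.hom w)⟩
    ProEt91.subsingleton_of_isEmpty ((sheafCompose _ (forget AddCommGrpCat.{u + 1})).obj A) W

/-- Inverse images along equal morphisms agree. -/
noncomputable def pullPCongr {f f' : S ⟶ X} (h : f = f') [ProEtS.PCont f] [ProEtS.PCont f'] :
    ProEtS.pullP f ≅ ProEtS.pullP f' := by
  subst h
  exact Iso.refl _

/-- The essential image satisfies recollement. -/
theorem imP_of_recollement {Z U : Scheme.{u}} [ProEtS.EpsCont S] [ProEtS.EpsCont Z] [ProEtS.EpsCont U]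
    (i : Z ⟶ S) [IsClosedImmersion i] (j : U ⟶ S) [IsOpenImmersion j] [QuasiCompact j]
    [ProEtS.PCont i] [ProEtS.JPCont j] (hc : Set.range j.base = (Set.range i.base)ᶜ) {F : ProEtS.AbP S}
    (hZ : ImP ((ProEtS.pullP i).obj F)) (hU : ImP ((ProEtS.restrP j).obj F)) : ImP F := by
  obtain ⟨h, hS⟩ := Mod48.ProLim.shortExact_localization i j hc F
  have : Etale j := inferInstance
  have := EtCore45.jCont j
  exact ImP.extension hS (hU.extZero j) (hZ.push i)

variable (F : ProEtS.AbP X) {m : ℕ} (T : Fin m → Scheme.{u}) (g : ∀ i, T i ⟶ X)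
  [∀ S : Scheme.{u}, ProEtS.EpsCont S] [∀ (S S' : Scheme.{u}) (f : S ⟶ S'), ProEtS.PCont f]

/-- Induction on the opens cutting out the strata. -/
theorem imP_pull_of_atoms (hg : ∀ i, IsImmersion (g i)) (hT : ∀ i, ImP ((ProEtS.pullP (g i)).obj F)) :
    ∀ (l : List X.Opens), (∀ V ∈ l, QuasiCompact V.ι) → ∀ {S : Scheme.{u}} (f : S ⟶ X),
      (∀ a, ∃ i, f a ∈ Set.range (g i)) →
      (∀ a b : S, (∀ V ∈ l, (f a ∈ V ↔ f b ∈ V)) → ∀ i, f a ∈ Set.range (g i) → f b ∈ Set.range (g i)) →
      ImP ((ProEtS.pullP f).obj F) := by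
  intro l
  induction l with
  | nil =>
    intro _ S f hcov hat
    obtain ⟨S', r, hr, hred, hrr⟩ := Cons51.exists_reduced_immersion
      (isClosed_univ (X := S)).isLocallyClosed
    have : IsClosedImmersion r := .of_isPreimmersion _ (by rw [hrr]; exact isClosed_univ)
    have : QuasiCompact (⊥ : S.Opens).ι :=
      have : IsEmpty (⊥ : S.Opens).toScheme := ⟨fun x => x.2⟩
      inferInstance
    have := jpCont (⊥ : S.Opens).ι
    refine imP_of_recollement r (⊥ : S.Opens).ι (by rw [hrr, Set.compl_univ, Scheme.Opens.range_ι]; rfl) ?_ ?_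
    · by_cases h : IsEmpty S'
      · exact imP_of_isZero (isZero_of_isEmpty _)
      obtain ⟨a₀⟩ := not_isEmpty_iff.1 h
      obtain ⟨i, hi⟩ := hcov (r a₀)
      obtain ⟨k, hk⟩ := Cons51.exists_lift (r ≫ f) (g i) (by
        rintro _ ⟨b, rfl⟩
        exact hat (r a₀) (r b) (fun V hV => absurd hV (List.not_mem_nil)) i hi)
      obtain ⟨e₁⟩ := nonempty_pullP_comp r f F
      obtain ⟨e₂⟩ := nonempty_pullP_comp k (g i) F
      exact ((hT i).pull k).of_iso (e₂ ≪≫ (pullPCongr hk).app F ≪≫ e₁.symm)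
    · have : IsEmpty (⊥ : S.Opens).toScheme := ⟨fun x => x.2⟩
      exact imP_of_isZero (isZero_of_isEmpty _)
  | cons V l ih =>
    intro hl S f hcov hat
    let W : S.Opens := f ⁻¹ᵁ V
    have : QuasiCompact W.ι :=
      have := hl V (List.mem_cons_self)
      MorphismProperty.of_isPullback (P := @QuasiCompact) (isPullback_morphismRestrict f V) this
    obtain ⟨Z, i, hi, -, hir⟩ := Cons51.exists_reduced_immersion W.2.isClosed_compl.isLocallyClosed
    have : IsClosedImmersion i := .of_isPreimmersion _ (by rw [hir]; exact W.2.isClosed_compl)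
    have := jpCont W.ι
    have hrec : ∀ {S' : Scheme.{u}} (h : S' ⟶ S), (∀ a b, h a ∈ W ↔ h b ∈ W) →
        ImP ((ProEtS.pullP h).obj ((ProEtS.pullP f).obj F)) := fun {S'} h hh => by
      obtain ⟨e⟩ := nonempty_pullP_comp h f F
      refine (ih (fun V' hV' => hl V' (List.mem_cons_of_mem _ hV')) (h ≫ f) (fun a => hcov (h a))
        fun a b hab => hat (h a) (h b) fun V' hV' => ?_).of_iso e.symm
      rcases List.mem_cons.1 hV' with rfl | hV'
      · exact hh a b
      · exact hab V' hV'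
    refine imP_of_recollement i W.ι (by rw [hir, compl_compl, Scheme.Opens.range_ι]; rfl) ?_ ?_
    · exact hrec i fun a b => iff_of_false (fun h => (hir.le ⟨a, rfl⟩) h) (fun h => (hir.le ⟨b, rfl⟩) h)
    · exact (hrec W.ι fun a b => iff_of_true a.2 b.2).of_iso ((restrPullIso W.ι).app _).symm

omit [∀ S : Scheme.{u}, ProEtS.EpsCont S] [∀ (S S' : Scheme.{u}) (f : S ⟶ S'), ProEtS.PCont f] in
/-- A constructible set is cut out by finitely many retrocompact opens. -/
theorem exists_opens_determining {Y : Type u} [TopologicalSpace Y] {E : Set Y} (hE : Topology.IsConstructible E) :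
    ∃ l : List (Set Y), (∀ V ∈ l, IsOpen V ∧ IsRetrocompact V) ∧
      ∀ a b, (∀ V ∈ l, (a ∈ V ↔ b ∈ V)) → (a ∈ E ↔ b ∈ E) := by
  induction hE using Topology.IsConstructible.empty_union_induction with
  | open_retrocompact U h₁ h₂ => exact ⟨[U], fun V hV => by rw [List.mem_singleton.1 hV]; exact ⟨h₁, h₂⟩,
      fun a b h => h U (List.mem_singleton_self U)⟩
  | union s _ t _ hs ht =>
    obtain ⟨l₁, a₁, b₁⟩ := hs
    obtain ⟨l₂, a₂, b₂⟩ := ht
    exact ⟨l₁ ++ l₂, fun V hV => (List.mem_append.1 hV).elim (a₁ V) (a₂ V), fun a b h =>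
      or_congr (b₁ a b fun V hV => h V (List.mem_append_left _ hV))
        (b₂ a b fun V hV => h V (List.mem_append_right _ hV))⟩
  | compl s _ hs =>
    obtain ⟨l, a₁, b₁⟩ := hs
    exact ⟨l, a₁, fun a b h => not_congr (b₁ a b h)⟩

/-- Being pulled back from the etale site can be checked on affine-locally constructible strata. -/
theorem imP_of_strata (h : ∀ U : X.Opens, IsAffineOpen U →
    ∃ (m : ℕ) (T : Fin m → Scheme.{u}) (g : ∀ i, T i ⟶ X), (∀ i, IsImmersion (g i)) ∧
      (∀ i, Topology.IsConstructible ((Subtype.val : ↥(U : Set X) → X) ⁻¹' Set.range (g i))) ∧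
      (⋃ i, Set.range (g i)) = (U : Set X) ∧ ∀ i, ImP ((ProEtS.pullP (g i)).obj F)) : ImP F := by
  refine imP_of_restr_cover (fun V : X.affineOpens => (V : X.Opens))
    (fun x => by
      obtain ⟨_, ⟨V, hV, rfl⟩, hx, -⟩ := X.isBasis_affineOpens.exists_subset_of_mem_open (Set.mem_univ x) isOpen_univ
      exact ⟨⟨V, hV⟩, hx⟩)
    (fun _ => inferInstance) (fun V => jpCont (V : X.Opens).ι) fun V => ?_
  have := jpCont (V : X.Opens).ι
  obtain ⟨m, T, g, hg, hgc, hgu, hT⟩ := h V V.2
  let U := (V : X.Opens).toScheme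
  have : IsAffine U := V.2
  have hlift : ∀ i, Set.range (g i) ⊆ Set.range (V : X.Opens).ι := fun i => by
    rw [Scheme.Opens.range_ι, ← hgu]
    exact Set.subset_iUnion (fun i => Set.range (g i)) i
  let g' : ∀ i, T i ⟶ U := fun i => IsOpenImmersion.lift (V : X.Opens).ι (g i) (hlift i)
  have hg'' : ∀ i, g' i ≫ (V : X.Opens).ι = g i := fun i => IsOpenImmersion.lift_fac _ _ _
  have hg' : ∀ i, IsImmersion (g' i) := fun i => by
    have : IsImmersion (g' i ≫ (V : X.Opens).ι) := (hg'' i) ▸ hg i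
    exact IsImmersion.of_comp (g' i) (V : X.Opens).ι
  have hr : ∀ i, Set.range (g' i) = (V : X.Opens).ι ⁻¹' Set.range (g i) := fun i => by
    rw [← hg'', Scheme.Hom.comp_base, TopCat.coe_comp, Set.range_comp,
      Set.preimage_image_eq _ (V : X.Opens).ι.isOpenEmbedding.injective]
  have hcU : ∀ i, Topology.IsConstructible (Set.range (g' i) : Set U) := fun i => by
    rw [hr i]
    exact hgc i
  choose l hl hdet using fun i => exists_opens_determining (hcU i)
  let L : List U.Opens := ((List.finRange m).flatMap fun i => (l i).attach.map fun W =>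
    (⟨W.1, (hl i W.1 W.2).1⟩ : U.Opens))
  have hT' : ∀ i, ImP ((ProEtS.pullP (g' i)).obj ((ProEtS.pullP (V : X.Opens).ι).obj F)) := fun i => by
    obtain ⟨e⟩ := nonempty_pullP_comp (g' i) (V : X.Opens).ι F
    exact (hT i).of_iso ((pullPCongr (hg'' i).symm).app F ≪≫ e.symm)
  have main := imP_pull_of_atoms ((ProEtS.pullP (V : X.Opens).ι).obj F) T g' hg' hT' L (fun W hW => ?_) (𝟙 U)
    (fun a => ?_) (fun a b hab i ha => ?_)
  · obtain ⟨e⟩ := nonempty_pullP_comp (𝟙 U) (V : X.Opens).ι F
    exact main.of_iso (e ≪≫ (pullPCongr (Category.id_comp _)).app F ≪≫ ((restrPullIso (V : X.Opens).ι).app F).symm)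
  · obtain ⟨i, -, hW⟩ := List.mem_flatMap.1 hW
    obtain ⟨⟨W', hW'⟩, -, rfl⟩ := List.mem_map.1 hW
    have hWc : IsCompact (W' : Set U) := by
      have := (hl i W' hW').2 (CompactSpace.isCompact_univ (X := U)) isOpen_univ
      rwa [Set.inter_univ] at this
    let W'' : U.Opens := ⟨W', (hl i W' hW').1⟩
    have : CompactSpace W''.toScheme := isCompact_iff_compactSpace.1 hWc
    exact (quasiCompact_iff_compactSpace W''.ι).2 this
  · obtain ⟨i, hi⟩ := Set.mem_iUnion.1 (hgu.ge (show (V : X.Opens).ι a ∈ (V : X.Opens) from a.2))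
    exact ⟨i, (hr i).ge hi⟩
  · exact (hdet i a b fun W hW => hab ⟨W, (hl i W hW).1⟩
      (List.mem_flatMap.2 ⟨i, List.mem_finRange i, List.mem_map.2 ⟨⟨W, hW⟩, List.mem_attach _ _, rfl⟩⟩)).1 ha

end Groth.Agent.EtModW45
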