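import Groth.Agent.EtModW45.Eps
import Groth.Agent.EtModW45.ImageStrata
import Groth.Agent.ModCons93.Basic

/-!
Module sheaves pulled back from the etale site: detection on strata.
-/

set_option autoImplicit false
set_option backward.isDefEq.respectTransparency.types false
universe u

open CategoryTheory CategoryTheory.Limits AlgebraicGeometry Opposite

namespace Groth.Agent.EtModW45

variable {Λ : Type (u + 1)} [CommRing Λ] {X Y : Scheme.{u}} [ProEtS.EpsCont X]

/-- A module sheaf is pulled back from the etale site if its underlying abelian sheaf is. -/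
theorem isIso_counit_of_imP {F : EtModW.ModP Λ X} (h : ImP ((ugP Λ X).obj F)) :
    IsIso ((epsModAdj Λ X).counit.app F) := by
  have hA : IsIso ((ProEtS.epsAdj X).counit.app ((ugP Λ X).obj F)) := (isIso_counit_iff _).2 h
  let R := (ProEtS.eps X).sheafPushforwardContinuous (ModuleCat.{u + 1} Λ) X.smallEtaleTopology
    (Scheme.ProEt.topology X)
  let c := (pullCompare (ProEtS.eps X) (ug Λ) X.smallEtaleTopology (Scheme.ProEt.topology X)).app (R.obj F)
  have key : c ≫ (ugP Λ X).map ((epsModAdj Λ X).counit.app F) =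
      (ProEtS.epsAdj X).counit.app ((ugP Λ X).obj F) := by
    apply ((ProEtS.epsAdj X).homEquiv _ _).injective
    refine ((ProEtS.epsAdj X).homEquiv_naturality_right _ _).trans ?_
    refine Eq.trans ?_ ((ProEtS.epsAdj X).homEquiv_unit _ _ _).symm
    refine Eq.trans ?_ ((ProEtS.epsAdj X).right_triangle_components ((ugP Λ X).obj F)).symm
    refine Eq.trans (congrArg (· ≫ _) (Equiv.apply_symm_apply _ _)) ?_
    exact ((ugE Λ X).map_comp _ _).symm.trans ((congrArg (ugE Λ X).map
      ((epsModAdj Λ X).right_triangle_components F)).trans ((ugE Λ X).map_id _))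
  have : IsIso c := isIso_epsCompare Λ X _
  have : IsIso (c ≫ (ugP Λ X).map ((epsModAdj Λ X).counit.app F)) := by
    rw [key]
    exact hA
  have : IsIso ((ugP Λ X).map ((epsModAdj Λ X).counit.app F)) := IsIso.of_isIso_comp_left c _
  exact isIso_of_reflects_iso _ (ugP Λ X)

/-- The underlying abelian sheaf of a module sheaf pulled back from the etale site. -/
theorem imP_ugP {G : EtModW.Mod Λ X} {F : EtModW.ModP Λ X} (e : (EtModW.epsPullMod Λ X).obj G ≅ F) :
    ImP ((ugP Λ X).obj F) :=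
  ⟨_, ⟨(epsUgIso Λ X).app G ≪≫ (ugP Λ X).mapIso e⟩⟩

omit [ProEtS.EpsCont X] in
/-- The underlying abelian sheaf of an inverse image. -/
theorem nonempty_pullP_ugP (g : Y ⟶ X) [ProEtS.PCont g] (F : EtModW.ModP Λ X) :
    Nonempty ((ProEtS.pullP g).obj ((ugP Λ X).obj F) ≅ (ugP Λ Y).obj
      (((ProEtS.bcP g).sheafPullback (ModuleCat.{u + 1} Λ) (Scheme.ProEt.topology X)
        (Scheme.ProEt.topology Y)).obj F)) :=
  ⟨@asIso _ _ _ _ _ (isIso_pullCompare (ProEtS.bcP g) (ug Λ) (Scheme.ProEt.topology X) (Scheme.ProEt.topology Y) F)⟩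

omit [ProEtS.EpsCont X] in
/-- A sheaf pulled back from the etale site on affine-locally constructible strata is so globally. -/
theorem exists_eps_iso_of_strata [∀ T : Scheme.{u}, ProEtS.EpsCont T] [∀ (T : Scheme.{u}) (g : T ⟶ X), ProEtS.PCont g]
    (F : EtModW.ModP Λ X)
    (h : ∀ U : X.Opens, IsAffineOpen U →
      ∃ (m : ℕ) (T : Fin m → Scheme.{u}) (g : ∀ i, T i ⟶ X),
        (∀ i, IsImmersion (g i)) ∧
        (∀ i, Topology.IsConstructible ((Subtype.val : ↥(U : Set X) → X) ⁻¹' Set.range (g i))) ∧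
        (⋃ i, Set.range (g i)) = (U : Set X) ∧
        ∀ i, ∃ E : EtModW.Mod Λ (T i), Nonempty ((EtModW.epsPullMod Λ (T i)).obj E ≅
          (((ProEtS.bcP (g i)).sheafPullback (ModuleCat.{u + 1} Λ) (Scheme.ProEt.topology X)
            (Scheme.ProEt.topology (T i)))).obj F)) :
    ∃ E : EtModW.Mod Λ X, Nonempty ((EtModW.epsPullMod Λ X).obj E ≅ F) := by
  have : ∀ (S S' : Scheme.{u}) (f : S ⟶ S'), ProEtS.PCont f := fun _ _ f => ProEt91.pCont f
  have := isIso_counit_of_imP (F := F) (imP_of_strata ((ugP Λ X).obj F) fun U hU => by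
    obtain ⟨m, T, g, h1, h2, h3, h4⟩ := h U hU
    refine ⟨m, T, g, h1, h2, h3, fun i => ?_⟩
    obtain ⟨E, ⟨e⟩⟩ := h4 i
    obtain ⟨k⟩ := nonempty_pullP_ugP (g i) F
    exact (imP_ugP e).of_iso k.symm)
  exact ⟨_, ⟨@asIso _ _ _ _ _ this⟩⟩

end Groth.Agent.EtModW45
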