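import Groth.Agent.EtModW45.EpiLim
import Groth.Agent.EtModW45.AdicEquiv
import Groth.Agent.EtModAR45.Pieces

/-!
The limit functor on systems up to translation; kernels and cokernels of adic pro-etale sheaves.
-/

set_option autoImplicit false
set_option backward.isDefEq.respectTransparency.types false
universe u

open CategoryTheory CategoryTheory.Limits AlgebraicGeometry Opposite ARSys Groth.Agent.AR46

namespace Groth.Agent.EtModW45

variable {Λ : Type (u + 1)} [CommRing Λ] {X : Scheme.{u}} [ProEtS.EpsCont X] {I : Ideal Λ}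

variable (Λ X) in
/-- The limit of the pulled back system, as a functor. -/
noncomputable abbrev limFun : PS (EtModW.Mod Λ X) ⥤ EtModW.ModP Λ X :=
  (Functor.whiskeringRight ℕᵒᵖ (EtModW.Mod Λ X) (EtModW.ModP Λ X)).obj (EtModW.epsPullMod Λ X) ⋙ lim

instance limFun_preservesFiniteLimits : PreservesFiniteLimits (limFun Λ X) := by
  have : PreservesLimitsOfSize.{0, 0} (lim : (ℕᵒᵖ ⥤ EtModW.ModP Λ X) ⥤ _) :=
    constLimAdj.rightAdjoint_preservesLimits
  have : PreservesFiniteLimits (lim : (ℕᵒᵖ ⥤ EtModW.ModP Λ X) ⥤ _) :=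
    PreservesLimitsOfSize.preservesFiniteLimits _
  have : PreservesFiniteLimits ((Functor.whiskeringRight ℕᵒᵖ (EtModW.Mod Λ X) (EtModW.ModP Λ X)).obj
      (EtModW.epsPullMod Λ X)) := ⟨fun J _ _ => inferInstance⟩
  exact comp_preservesFiniteLimits _ _

instance limFun_additive : (limFun Λ X).Additive := Functor.additive_of_preserves_binary_products _

/-- An isomorphism up to translation gives an isomorphism of limits. -/
theorem isIso_limFun_map {P P' : PS (EtModW.Mod Λ X)} {u : P ⟶ P'} (hu : IsARIso u) :
    IsIso ((limFun Λ X).map u) := by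
  obtain ⟨s, w, hw⟩ := (AR46.isARIso_iff_exists_shiftInverse u).1 hu
  let L := EtModW.epsPullMod Λ X
  let k : Cone (P ⋙ L) :=
    { pt := limit (P' ⋙ L)
      π :=
        { app := fun j => limit.π (P' ⋙ L) (op (j.unop + s)) ≫ L.map (w j.unop)
          naturality := fun i j a => by
            obtain ⟨i⟩ := i; obtain ⟨j⟩ := j
            refine (Category.id_comp _).trans ?_
            have h : j ≤ i := leOfHom a.unop
            show limit.π (P' ⋙ L) (op (j + s)) ≫ L.map (w j) =
              (limit.π (P' ⋙ L) (op (i + s)) ≫ L.map (w i)) ≫ L.map (P.map a)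
            rw [Category.assoc, ← L.map_comp, show P.map a = tr P h from rfl, ← hw.natural h, L.map_comp,
              ← Category.assoc]
            exact congrArg (· ≫ L.map (w j))
              (limit.w (P' ⋙ L) (homOfLE (Nat.add_le_add_right h s)).op).symm } }
  refine ⟨limit.lift (P ⋙ L) k, limit.hom_ext fun j => ?_, limit.hom_ext fun j => ?_⟩
  · obtain ⟨n⟩ := j
    refine (Category.assoc _ _ _).trans ((congrArg (CategoryStruct.comp _) (limit.lift_π k (op n))).trans ?_)
    refine (Category.assoc _ _ _).symm.trans ((congrArg (· ≫ L.map (w n))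
      (limMap_π (Functor.whiskerRight u L) (op (n + s)))).trans ?_)
    refine (Category.assoc _ _ _).trans ((congrArg (limit.π (P ⋙ L) (op (n + s)) ≫ ·)
      ((L.map_comp _ _).symm.trans (congrArg L.map (hw.comp_inv n)))).trans ?_)
    exact (limit.w (P ⋙ L) (homOfLE (Nat.le_add_right n s)).op).trans (Category.id_comp _).symm
  · obtain ⟨n⟩ := j
    refine (Category.assoc _ _ _).trans ((congrArg (CategoryStruct.comp _)
      (limMap_π (Functor.whiskerRight u L) (op n))).trans ?_)
    refine (Category.assoc _ _ _).symm.trans ((congrArg (· ≫ L.map (u.app (op n))) (limit.lift_π k (op n))).trans ?_)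
    refine (Category.assoc _ _ _).trans ((congrArg (limit.π (P' ⋙ L) (op (n + s)) ≫ ·)
      ((L.map_comp _ _).symm.trans (congrArg L.map (hw.inv_comp n)))).trans ?_)
    exact (limit.w (P' ⋙ L) (homOfLE (Nat.le_add_right n s)).op).trans (Category.id_comp _).symm

/-- An adic system with zero limit is zero. -/
theorem isZero_of_isZero_limFun (hI : I.FG) {Y : PS (EtModW.Mod Λ X)} (hY : IsAdic I Y)
    (h : IsZero ((limFun Λ X).obj Y)) : IsZero Y := by
  refine (IsZero.iff_id_eq_zero Y).2 ?_
  ext1
  funext j
  obtain ⟨n⟩ := j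
  apply (EtModW.epsPullMod Λ X).map_injective
  have := isQuot_epi (isQuot_limit_π hI hY n)
  exact (cancel_epi (limit.π (Y ⋙ EtModW.epsPullMod Λ X) (op n))).1 (h.eq_of_src _ _)

/-- The Mittag-Leffler property passes to quotients. -/
theorem SectLift.of_epi {A B : PS (EtModW.Mod Λ X)} (p : A ⟶ B) [Epi p] (hA : SectLift A) : SectLift B := by
  intro W hW
  obtain ⟨r, hr⟩ := hA hW
  refine ⟨r, fun n s hs x => ?_⟩
  let L := EtModW.epsPullMod Λ X
  have hp : ∀ m : ℕ, Epi (p.app (op m)) := fun m => (NatTrans.epi_iff_epi_app p).1 inferInstance (op m)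
  have := hp (n + r)
  obtain ⟨a, rfl⟩ := surjective_of_epi_mod (L.map (p.app (op (n + r)))) hW x
  obtain ⟨y, hy⟩ := hr n s hs a
  refine ⟨((secF W).map (L.map (p.app (op (n + s))))).hom y, ?_⟩
  have hnat : ∀ {a b : ℕ} (h : a ≤ b) (z : (secF W).obj ((epsSys A).obj (op b))),
      ((secF W).map (tr (epsSys B) h)).hom (((secF W).map (L.map (p.app (op b)))).hom z) =
        ((secF W).map (L.map (p.app (op a)))).hom (((secF W).map (tr (epsSys A) h)).hom z) :=
    fun {a b} h z => ConcreteCategory.congr_hom
      (((secF W).map_comp _ _).symm.trans ((congrArg (secF W).map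
        ((Functor.whiskerRight p L).naturality (homOfLE h).op).symm).trans ((secF W).map_comp _ _))) z
  exact (hnat _ y).trans ((congrArg _ hy).trans (hnat _ a).symm)

/-- The limit functor takes a cokernel to a cokernel when the source satisfies Mittag-Leffler. -/
theorem isIso_cokernelComparison_limFun {A B : PS (EtModW.Mod Λ X)} (t : A ⟶ B)
    (hK : SectLift (kernel t)) (hIm : SectLift (Abelian.image t)) :
    IsIso (cokernelComparison t (limFun Λ X)) := by
  let F := limFun Λ X
  let S₁ : ShortComplex (PS (EtModW.Mod Λ X)) :=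
    ShortComplex.mk (kernel.ι t) (Abelian.factorThruImage t) (by
      rw [← cancel_mono (Abelian.image.ι t), Category.assoc, Abelian.image.fac, kernel.condition, zero_comp])
  have hS₁ : S₁.ShortExact :=
    { exact := ShortComplex.exact_of_f_is_kernel _ (KernelFork.IsLimit.ofι' _ _ fun {W} k hk =>
        ⟨kernel.lift t k (by rw [← Abelian.image.fac t, ← Category.assoc, hk, zero_comp]), kernel.lift_ι _ _ _⟩) }
  let S₂ : ShortComplex (PS (EtModW.Mod Λ X)) :=
    ShortComplex.mk (Abelian.image.ι t) (cokernel.π t) (kernel.condition _)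
  have hS₂ : S₂.ShortExact := { exact := ShortComplex.exact_kernel _ }
  have h₁ : Epi (F.map (Abelian.factorThruImage t)) := epi_limMap_of_sectLift hS₁ hK
  have h₂ : Epi (F.map (cokernel.π t)) := epi_limMap_of_sectLift hS₂ hIm
  have hex : (S₂.map F).Exact :=
    ((Functor.preservesFiniteLimits_iff_forall_exact_map_and_mono F).1 inferInstance _ hS₂).1
  have hz : F.map t ≫ F.map (cokernel.π t) = 0 := by rw [← F.map_comp, cokernel.condition, F.map_zero]
  have : Epi (S₂.map F).g := h₂
  have hc : IsColimit (CokernelCofork.ofπ (F.map (cokernel.π t)) hz) :=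
    CokernelCofork.IsColimit.ofπ' _ _ fun {W} k hk => by
      have hk' : (S₂.map F).f ≫ k = 0 := by
        have h' : F.map (Abelian.factorThruImage t) ≫ F.map (Abelian.image.ι t) ≫ k = 0 := by
          rw [← F.map_comp_assoc, Abelian.image.fac, hk]
        exact h₁.left_cancellation _ _ (h'.trans comp_zero.symm)
      exact ⟨hex.desc k hk', hex.g_desc k hk'⟩
  have he : cokernelComparison t F = ((cokernelIsCokernel (F.map t)).coconePointUniqueUpToIso hc).hom :=
    coequalizer.hom_ext ((π_comp_cokernelComparison t F).trans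
      ((cokernelIsCokernel (F.map t)).comp_coconePointUniqueUpToIso_hom hc WalkingParallelPair.one).symm)
  rw [he]
  infer_instance

end Groth.Agent.EtModW45
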