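import Groth.Agent.EtModW45.Eps
import Groth.Agent.EtModAR45.Strata
import Groth.Agent.EtModAR45.EtDetect
import Groth.Agent.AR46.Ideal
import Mathlib.RingTheory.HopkinsLevitzki
import Mathlib.RingTheory.Artinian.Module

/-!
Systems of locally constant sheaves of artinian type satisfy the Mittag-Leffler condition.
-/

set_option autoImplicit false
set_option backward.isDefEq.respectTransparency.types false
universe w u v

open CategoryTheory CategoryTheory.Limits AlgebraicGeometry Opposite ARSys Groth.Agent.AR46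
open Groth.Agent.Unr55.EtSh (Pt hom point_over)
open Groth.Agent.LocConst45.Mod

namespace Groth.Agent.EtModW45

variable {Λ : Type (u + 1)} [CommRing Λ] [IsNoetherianRing Λ] {I : Ideal Λ} [IsArtinianRing (Λ ⧸ I)]

/-- A finite module killed by a power of `I` is artinian. -/
theorem isArtinian_of_killed {M : Type (u + 1)} [AddCommGroup M] [Module Λ M] [Module.Finite Λ M] (n : ℕ)
    (h : ∀ a ∈ I ^ (n + 1), ∀ m : M, a • m = 0) : IsArtinian Λ M := by
  let J := I ^ (n + 1)
  have : Ring.KrullDimLE 0 (Λ ⧸ J) := Ring.krullDimLE_zero_iff.2 fun P hP => by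
    have hc := hP.comap (Ideal.Quotient.mk J)
    have hI : I ≤ P.comap (Ideal.Quotient.mk J) :=
      hc.le_of_pow_le (n := n + 1) fun a ha => by
        rw [Ideal.mem_comap, Ideal.Quotient.eq_zero_iff_mem.2 ha]
        exact P.zero_mem
    have h2 : ((P.comap (Ideal.Quotient.mk J)).map (Ideal.Quotient.mk I)).IsPrime :=
      Ideal.map_isPrime_of_surjective Ideal.Quotient.mk_surjective (by rwa [Ideal.mk_ker])
    have h3 := IsArtinianRing.isMaximal_of_isPrime ((P.comap (Ideal.Quotient.mk J)).map (Ideal.Quotient.mk I))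
    have h4 : (P.comap (Ideal.Quotient.mk J)).IsMaximal := by
      rcases Ideal.comap_isMaximal_of_surjective (Ideal.Quotient.mk I) Ideal.Quotient.mk_surjective
        (K := (P.comap (Ideal.Quotient.mk J)).map (Ideal.Quotient.mk I)) with h
      rwa [Ideal.comap_map_of_surjective _ Ideal.Quotient.mk_surjective, ← RingHom.ker_eq_comap_bot,
        Ideal.mk_ker, sup_eq_left.2 hI] at h
    rw [← Ideal.map_comap_of_surjective _ Ideal.Quotient.mk_surjective P]
    exact (Ideal.map_eq_top_or_isMaximal_of_surjective _ Ideal.Quotient.mk_surjective h4).resolve_left (by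
      rw [Ideal.map_comap_of_surjective _ Ideal.Quotient.mk_surjective P]; exact hP.ne_top)
  have : IsArtinianRing (Λ ⧸ J) := isArtinianRing_iff_krullDimLE_zero.2 this
  have hM : Module.IsTorsionBySet Λ M (J : Set Λ) := fun m a => h a a.2 m
  let _ : Module (Λ ⧸ J) M := hM.module
  have : IsScalarTower Λ (Λ ⧸ J) M := hM.isScalarTower
  have : Module.Finite (Λ ⧸ J) M := Module.Finite.of_restrictScalars_finite Λ (Λ ⧸ J) M
  exact isArtinian_of_surjective_algebraMap (S := Λ) (R := Λ ⧸ J) (M := M) Ideal.Quotient.mk_surjective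

omit [IsNoetherianRing Λ] [IsArtinianRing (Λ ⧸ I)] in
/-- A map between locally constant sheaves vanishes if it does at the generic point. -/
theorem eq_zero_of_generic {S : Scheme.{u}} [IrreducibleSpace S] {A G : EtModW.Mod Λ S} (φ : A ⟶ G)
    (hG : EtModW.IsFTLocConst Λ G) {Ω : Type u} [Field Ω] [IsSepClosed Ω] (η : Spec (CommRingCat.of Ω) ⟶ S)
    (hη : η default = genericPoint S) (h : (EtModW.stalk Λ η).map φ = 0) : φ = 0 := by
  let st := EtModW.stalk Λ η
  have h1 : st.map (Abelian.image.ι φ) = 0 := by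
    rw [← cancel_epi (st.map (Abelian.factorThruImage φ)), ← st.map_comp, Abelian.image.fac, h, comp_zero]
  have h2 : IsZero (Abelian.image φ) := EtModAR45.isZero_of_generic (Abelian.image.ι φ) hG η hη fun a =>
    (ModuleCat.mono_iff_injective (st.map (Abelian.image.ι φ))).1 inferInstance
      ((ConcreteCategory.congr_hom h1 a).trans (map_zero _).symm)
  rw [← Abelian.image.fac φ, h2.eq_of_src (Abelian.image.ι φ) 0, comp_zero]

variable {X : Scheme.{u}} [IsNoetherian X]

/-- The transition map from the shifted index. -/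
abbrev tm {C : Type v} [Category.{w} C] (F : PS C) (s n : ℕ) : F.obj (op (n + s)) ⟶ F.obj (op n) :=
  tr F (Nat.le_add_right n s)

/-- The images stabilise. -/
theorem exists_stable_image (F : PS (EtModW.Mod Λ X)) (hk : TermKilled I F)
    (hF : ∀ n : ℕ, EtModW.IsFTLocConst Λ (F.obj (op n))) (n : ℕ) :
    ∃ r : ℕ, ∀ s, r ≤ s → tm F r n ≫ cokernel.π (tm F s n) = 0 := by
  have hfin := TopologicalSpace.NoetherianSpace.finite_irreducibleComponents (α := X)
  have hcomp : ∀ Z : irreducibleComponents X, ∃ r : ℕ, ∀ s, r ≤ s → ∀ (K : Type u) [Field K] [IsSepClosed K]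
      (ξ : Spec (CommRingCat.of K) ⟶ X), ξ default ∈ (Z : Set X) →
        (EtModW.stalk Λ ξ).map (tm F r n ≫ cokernel.π (tm F s n)) = 0 := by
    rintro ⟨Z, hZ⟩
    obtain ⟨T, g, hg, hT, hgr⟩ :=
      Cons51.exists_reduced_immersion (isClosed_of_mem_irreducibleComponents Z hZ).isLocallyClosed
    have : IrreducibleSpace T := by
      have h1 : IsIrreducible (g '' (Set.univ : Set T)) := by rw [Set.image_univ, hgr]; exact hZ.1
      refine irreducibleSpace_def _ |>.2 ⟨?_, fun u v hu hv hu' hv' => ?_⟩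
      · obtain ⟨_, t, -, -⟩ := h1.nonempty
        exact ⟨t, trivial⟩
      · obtain ⟨O₁, hO₁, rfl⟩ := g.isEmbedding.isInducing.isOpen_iff.1 hu
        obtain ⟨O₂, hO₂, rfl⟩ := g.isEmbedding.isInducing.isOpen_iff.1 hv
        obtain ⟨a, -, ha⟩ := hu'
        obtain ⟨b, -, hb⟩ := hv'
        obtain ⟨_, ⟨t, -, rfl⟩, h₁, h₂⟩ := h1.isPreirreducible O₁ O₂ hO₁ hO₂
          ⟨g a, ⟨a, trivial, rfl⟩, ha⟩ ⟨g b, ⟨b, trivial, rfl⟩, hb⟩
        exact ⟨t, trivial, h₁, h₂⟩
    obtain ⟨Ω, _, _, η, hη⟩ := EtModAR45.exists_point (genericPoint T)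
    let st := EtModW.stalk Λ (η ≫ g)
    let M := st.obj (F.obj (op n))
    have : Module.Finite Λ (M : ModuleCat.{u + 1} Λ) := EtModAR45.finite_of_ftlc (η ≫ g) (hF n)
    have : IsArtinian Λ (M : ModuleCat.{u + 1} Λ) := isArtinian_of_killed (I := I) n fun a ha m => by
      have := ConcreteCategory.congr_hom (congrArg st.map (hk n a ha)) m
      rwa [st.map_smul, st.map_id, st.map_zero] at this
    let R : ℕ →o (Submodule Λ (M : ModuleCat.{u + 1} Λ))ᵒᵈ :=
      ⟨fun s => OrderDual.toDual (LinearMap.range (st.map (tm F s n)).hom), fun a b hab => by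
        show LinearMap.range (st.map (tm F b n)).hom ≤ LinearMap.range (st.map (tm F a n)).hom
        rw [show tm F b n = tr F (show n + a ≤ n + b by omega) ≫ tm F a n from
          (F.map_comp _ _), st.map_comp, ModuleCat.hom_comp]
        exact LinearMap.range_comp_le_range _ _⟩
    obtain ⟨r, hr⟩ := IsArtinian.monotone_stabilizes R
    refine ⟨r, fun s hs K _ _ ξ hξ => ?_⟩
    let φ := tm F r n ≫ cokernel.π (tm F s n)
    have h0 : st.map φ = 0 := ConcreteCategory.hom_ext _ _ fun a => by
      obtain ⟨b, hb⟩ : (st.map (tm F r n)) a ∈ LinearMap.range (st.map (tm F s n)).hom := by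
        rw [show LinearMap.range (st.map (tm F s n)).hom = LinearMap.range (st.map (tm F r n)).hom
          from (hr s hs).symm]
        exact ⟨a, rfl⟩
      refine (ConcreteCategory.congr_hom (st.map_comp _ _) a).trans ?_
      refine (congrArg (st.map (cokernel.π (tm F s n))) hb).symm.trans ?_
      refine (ConcreteCategory.congr_hom (st.map_comp _ _).symm b).trans ?_
      rw [cokernel.condition, st.map_zero]
      rfl
    have hTn : EtModW.IsFTLocConst Λ ((EtModW.pull Λ g).obj (cokernel (tm F s n))) :=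
      isFTLocConst_pull g ((LocConst45.Mod.ft_weakSerre Λ X).1 _ _ _ (hF _) (hF _)).2
    have hψ : (EtModW.pull Λ g).map φ = 0 := eq_zero_of_generic _ hTn η hη
      ((cancel_epi ((EtModAR45.stalkPullModIso g η).app (F.obj (op (n + r)))).hom).1
        (((EtModAR45.stalkPullModIso g η).hom.naturality φ).symm.trans
          (((congrArg (· ≫ _) h0).trans zero_comp).trans comp_zero.symm)))
    obtain ⟨ζ, rfl⟩ := Cons51.exists_lift ξ g (by
      rintro _ ⟨a, rfl⟩
      rw [Unr55.EtSh.default_eq a, hgr]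
      exact hξ)
    refine (cancel_mono ((EtModAR45.stalkPullModIso g ζ).app (cokernel (tm F s n))).hom).1 ?_
    refine ((EtModAR45.stalkPullModIso g ζ).hom.naturality φ).trans ?_
    refine ((congrArg (CategoryStruct.comp _) ((congrArg (EtModW.stalk Λ ζ).map hψ).trans
      (Functor.map_zero _ _ _))).trans comp_zero).trans zero_comp.symm
  choose r hr using hcomp
  have := hfin.to_subtype
  obtain ⟨N, hN⟩ := (Set.finite_range r).bddAbove
  refine ⟨N, fun s hs => EtModAR45.eq_zero_of_stalks _ fun K _ _ ξ => ?_⟩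
  obtain ⟨Z, hZ, hξ⟩ : ξ default ∈ ⋃₀ irreducibleComponents X := by rw [sUnion_irreducibleComponents]; trivial
  have hN' : r ⟨Z, hZ⟩ ≤ N := hN ⟨_, rfl⟩
  rw [show tm F N n = tr F (show n + r ⟨Z, hZ⟩ ≤ n + N by omega) ≫ tm F (r ⟨Z, hZ⟩) n from
    (F.map_comp _ _), Category.assoc, Functor.map_comp, hr ⟨Z, hZ⟩ s (hN'.trans hs) K ξ hξ, comp_zero]

omit [IsNoetherianRing Λ] [IsArtinianRing (Λ ⧸ I)] in
/-- Image inclusion from the vanishing of a composite. -/
theorem imageSubobject_le_of_comp {C : Type v} [Category.{w} C] [Abelian C] {A B M : C} {f : A ⟶ M} {g : B ⟶ M}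
    (h : f ≫ cokernel.π g = 0) : imageSubobject f ≤ imageSubobject g := by
  refine imageSubobject_le f ((Abelian.monoLift (imageSubobject g).arrow f ?_)) (Abelian.monoLift_comp _ _ _)
  have hg : g ≫ cokernel.π (imageSubobject g).arrow = 0 :=
    (congrArg (fun q => q ≫ cokernel.π (imageSubobject g).arrow) (imageSubobject_arrow_comp g).symm).trans
      ((Category.assoc _ _ _).trans ((congrArg (_ ≫ ·) (cokernel.condition _)).trans comp_zero))
  obtain ⟨k, hk⟩ : ∃ k, cokernel.π g ≫ k = cokernel.π (imageSubobject g).arrow :=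
    ⟨cokernel.desc g _ hg, cokernel.π_desc _ _ _⟩
  rw [← hk, ← Category.assoc, h, zero_comp]

/-- The system of pullbacks satisfies Mittag-Leffler. -/
theorem isML_eps [ProEtS.EpsCont X] (F : PS (EtModW.Mod Λ X)) (hk : TermKilled I F)
    (hF : ∀ n : ℕ, EtModW.IsFTLocConst Λ (F.obj (op n))) : IsML (F ⋙ EtModW.epsPullMod Λ X) := fun n => by
  obtain ⟨r, hr⟩ := exists_stable_image F hk hF n
  let L := EtModW.epsPullMod Λ X
  refine ⟨r, fun s hs => le_antisymm ?_ (imageSubobject_le_of_comp ?_)⟩
  · refine imageSubobject_le_of_comp ?_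
    show L.map (tm F s n) ≫ cokernel.π (L.map (tm F r n)) = 0
    rw [show tm F s n = tr F (show n + r ≤ n + s by omega) ≫ tm F r n from (F.map_comp _ _),
      L.map_comp, Category.assoc, cokernel.condition, comp_zero]
  · show L.map (tm F r n) ≫ cokernel.π (L.map (tm F s n)) = 0
    rw [← PreservesCokernel.π_iso_hom L (tm F s n)] at *
    rw [← Category.assoc, ← L.map_comp, hr s hs, L.map_zero, zero_comp]

end Groth.Agent.EtModW45
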