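import Groth.Agent.EtModW45.Eps
import Groth.Agent.S14016
import Groth.Agent.Mod48.EtConsSerre
import Groth.Agent.ModCons93.Basic

/-!
Weak Serre subcategories of module sheaves pass to the pro-etale site.
-/

set_option autoImplicit false
set_option backward.isDefEq.respectTransparency.types false
universe u

open CategoryTheory CategoryTheory.Limits AlgebraicGeometry Opposite

namespace Groth.Agent.EtModW45

variable {Λ : Type (u + 1)} [CommRing Λ] {X : Scheme.{u}} [ProEtS.EpsCont X]

instance ugE_faithful : (ugE Λ X).Faithful where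
  map_injective {F G} f g h := by
    apply ObjectProperty.hom_ext
    ext U x
    exact ConcreteCategory.congr_hom (congrArg (fun q : (ugE Λ X).obj F ⟶ (ugE Λ X).obj G => q.hom.app U) h) x

omit [ProEtS.EpsCont X] in
lemma ugP_shortExact {T : ShortComplex (EtModW.ModP Λ X)} (hT : T.ShortExact) :
    haveI : (ugP Λ X).Additive := Functor.additive_of_preserves_binary_products _
    (T.map (ugP Λ X)).ShortExact := by
  have : (ugP Λ X).Additive := Functor.additive_of_preserves_binary_products _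
  obtain ⟨hex, hmono⟩ :=
    (Functor.preservesFiniteLimits_iff_forall_exact_map_and_mono (ugP Λ X)).1 inferInstance _ hT
  have : Epi T.g := hT.epi_g
  have h : Sheaf.IsLocallySurjective T.g :=
    (Sheaf.isLocallySurjective_iff_epi' (ModuleCat.{u + 1} Λ) T.g).2 inferInstance
  have h' : Sheaf.IsLocallySurjective ((ugP Λ X).map T.g) := ⟨fun s => h.imageSieve_mem s⟩
  exact { exact := hex, mono_f := hmono,
          epi_g := (Sheaf.isLocallySurjective_iff_epi' AddCommGrpCat.{u + 1} _).1 h' }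

/-- The direct image to the etale site is exact on sequences with first term in the image. -/
theorem epi_epsPush_map {T : ShortComplex (EtModW.ModP Λ X)} (hT : T.ShortExact) {G : EtModW.Mod Λ X}
    (e : (EtModW.epsPullMod Λ X).obj G ≅ T.X₁) :
    Epi (((ProEtS.eps X).sheafPushforwardContinuous (ModuleCat.{u + 1} Λ) X.smallEtaleTopology
      (Scheme.ProEt.topology X)).map T.g) := by
  have : (ugP Λ X).Additive := Functor.additive_of_preserves_binary_products _
  have h : Epi ((ProEtS.epsPush X).map ((ugP Λ X).map T.g)) :=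
    S14016.epi_epsPush_map (T := T.map (ugP Λ X)) (ugP_shortExact hT)
      ((epsUgIso Λ X).app G ≪≫ (ugP Λ X).mapIso e)
  exact (ugE Λ X).epi_of_epi_map h

/-- The essential image of a weak Serre subcategory is weak Serre. -/
theorem isWeakSerre_eps (S : ObjectProperty (EtModW.Mod Λ X)) [WSerre.IsWeakSerre S] :
    WSerre.IsWeakSerre (fun F : EtModW.ModP Λ X =>
      ∃ G : EtModW.Mod Λ X, S G ∧ Nonempty ((EtModW.epsPullMod Λ X).obj G ≅ F)) := by
  let L := EtModW.epsPullMod Λ X
  let R := (ProEtS.eps X).sheafPushforwardContinuous (ModuleCat.{u + 1} Λ) X.smallEtaleTopology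
    (Scheme.ProEt.topology X)
  let adj : L ⊣ R := epsModAdj Λ X
  have : IsIso adj.unit := NatIso.isIso_of_isIso_app _
  have : PreservesLimitsOfSize.{0, 0} R := adj.rightAdjoint_preservesLimits
  have : PreservesFiniteLimits R := PreservesLimitsOfSize.preservesFiniteLimits _
  refine { exists_zero := ?_, toIsClosedUnderKernels := ⟨?_⟩, toIsClosedUnderCokernels := ⟨?_⟩,
           toIsClosedUnderExtensions := ⟨?_⟩ }
  · obtain ⟨Z, hZ, hSZ⟩ := S.exists_prop_of_containsZero
    exact ⟨L.obj Z, L.map_isZero hZ, Z, hSZ, ⟨Iso.refl _⟩⟩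
  · rintro _ ⟨f, k, hk, ⟨G, hG, ⟨e⟩⟩, ⟨G', hG', ⟨e'⟩⟩⟩
    let ψ := (epsFF Λ X).preimage (e.hom ≫ f ≫ e'.inv)
    have hψ : L.map ψ = e.hom ≫ f ≫ e'.inv := (epsFF Λ X).map_preimage _
    refine ⟨kernel ψ, S.prop_kernel ψ hG hG', ⟨?_⟩⟩
    exact PreservesKernel.iso L ψ ≪≫
      kernel.mapIso (L.map ψ) f e e' (by rw [hψ]; simp) ≪≫
      IsLimit.conePointUniqueUpToIso (limit.isLimit _) hk
  · rintro _ ⟨f, k, hk, ⟨G, hG, ⟨e⟩⟩, ⟨G', hG', ⟨e'⟩⟩⟩
    let ψ := (epsFF Λ X).preimage (e.hom ≫ f ≫ e'.inv)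
    have hψ : L.map ψ = e.hom ≫ f ≫ e'.inv := (epsFF Λ X).map_preimage _
    refine ⟨cokernel ψ, S.prop_cokernel ψ hG hG', ⟨?_⟩⟩
    exact PreservesCokernel.iso L ψ ≪≫
      cokernel.mapIso (L.map ψ) f e e' (by rw [hψ]; simp) ≪≫
      IsColimit.coconePointUniqueUpToIso (colimit.isColimit _) hk
  · rintro T hT ⟨G₁, hG₁, ⟨e₁⟩⟩ ⟨G₃, hG₃, ⟨e₃⟩⟩
    obtain ⟨hTe, hTm⟩ := (Functor.preservesFiniteLimits_iff_forall_exact_map_and_mono R).1 inferInstance _ hT
    have hepi := epi_epsPush_map hT e₁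
    have hR : (T.map R).ShortExact := { exact := hTe, mono_f := hTm, epi_g := hepi }
    let i₁ : G₁ ≅ R.obj T.X₁ := asIso (adj.unit.app G₁) ≪≫ R.mapIso e₁
    let i₃ : G₃ ≅ R.obj T.X₃ := asIso (adj.unit.app G₃) ≪≫ R.mapIso e₃
    refine ⟨R.obj T.X₂, ObjectProperty.prop_X₂_of_shortExact _ hR (S.prop_of_iso i₁ hG₁) (S.prop_of_iso i₃ hG₃), ?_⟩
    have c₁ : IsIso (adj.counit.app T.X₁) := adj.isIso_counit_app_of_iso e₁.symm
    have c₃ : IsIso (adj.counit.app T.X₃) := adj.isIso_counit_app_of_iso e₃.symm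
    have hLR := hR.map_of_exact L
    let θ : (T.map R).map L ⟶ T :=
      { τ₁ := adj.counit.app T.X₁
        τ₂ := adj.counit.app T.X₂
        τ₃ := adj.counit.app T.X₃
        comm₁₂ := (adj.counit.naturality T.f).symm
        comm₂₃ := (adj.counit.naturality T.g).symm }
    have : IsIso θ.τ₁ := c₁
    have : IsIso θ.τ₃ := c₃
    have : IsIso θ.τ₂ := ShortComplex.isIso₂_of_shortExact_of_isIso₁₃ θ hLR hT
    exact ⟨@asIso _ _ _ _ θ.τ₂ this⟩

end Groth.Agent.EtModW45

namespace Groth.Agent.EtModW45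

variable {Λ : Type (u + 1)} [CommRing Λ]

/-- Constructible sheaves form a weak Serre subcategory. -/
theorem isWeakSerre_isConstructible [IsNoetherianRing Λ] (X : Scheme.{u}) :
    WSerre.IsWeakSerre (EtModW.IsConstructible Λ (X := X)) where
  exists_zero := ⟨_, isZero_zero _, Mod48.EtCons.isConstructible_isZero (isZero_zero _)⟩
  kernels_le := by
    rintro _ ⟨f, k, hk, hf⟩
    exact ModCons93.isConstructible_of_iso ((limit.isLimit _).conePointUniqueUpToIso hk)
      (Mod48.EtCons.isConstructible_kernel_cokernel f hf.1 hf.2).1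
  cokernels_le := by
    rintro _ ⟨f, k, hk, hf⟩
    exact ModCons93.isConstructible_of_iso ((colimit.isColimit _).coconePointUniqueUpToIso hk)
      (Mod48.EtCons.isConstructible_kernel_cokernel f hf.1 hf.2).2
  prop_X₂_of_shortExact hS h₁ h₃ := Mod48.EtCons.isConstructible_extension _ hS h₁ h₃

/-- All sheaves form a weak Serre subcategory. -/
theorem isWeakSerre_top (X : Scheme.{u}) : WSerre.IsWeakSerre (fun _ : EtModW.Mod Λ X => True) where
  exists_zero := ⟨_, isZero_zero _, trivial⟩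
  kernels_le _ _ := trivial
  cokernels_le _ _ := trivial
  prop_X₂_of_shortExact _ _ _ := trivial

end Groth.Agent.EtModW45
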