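import Groth.Agent.EtModW45.AdicAbelian
import Groth.Agent.EtModW45.WeakSerre
import Mathlib.Algebra.Homology.ShortComplex.SnakeLemma
import Mathlib.Algebra.Homology.ShortComplex.Limits
import Mathlib.RingTheory.Ideal.Operations

/-!
Quotients of pro-etale sheaves modulo powers of an element, and completeness of extensions.
-/

set_option autoImplicit false
set_option backward.isDefEq.respectTransparency.types false
universe w v u

open CategoryTheory CategoryTheory.Limits AlgebraicGeometry Opposite ARSys Groth.Agent.AR46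

namespace Groth.Agent.EtModW45

section General

variable {C : Type u} [Category.{v} C] [Abelian C] {A : Type w} [CommRing A] [Linear A C]

/-- The cokernel of multiplication is the quotient modulo the element. -/
lemma isQuot_cokernel_smul (b : A) (G : C) :
    IsQuot (Ideal.span {b}) (cokernel.π (b • 𝟙 G)) := by
  have hb : b • 𝟙 (cokernel (b • 𝟙 G)) = 0 := by
    rw [← cancel_epi (cokernel.π (b • 𝟙 G)), Linear.comp_smul, Category.comp_id, comp_zero]
    have h := cokernel.condition (b • 𝟙 G)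
    rwa [Linear.smul_comp, Category.id_comp] at h
  refine ⟨fun a ha => ?_, fun Y φ hφ => ?_⟩
  · obtain ⟨c, rfl⟩ := Ideal.mem_span_singleton'.1 ha
    rw [mul_smul, hb, smul_zero]
  · refine ⟨cokernel.desc _ φ ?_, cokernel.π_desc _ _ _, fun ψ hψ => ?_⟩
    · rw [Linear.smul_comp, Category.id_comp]
      exact hφ b (Ideal.mem_span_singleton_self b)
    · rw [← cancel_epi (cokernel.π (b • 𝟙 G)), cokernel.π_desc]
      exact hψ

/-- Quotient maps modulo the same ideal are isomorphic. -/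
noncomputable def isQuotIso {I : Ideal A} {M Q Q' : C} {p : M ⟶ Q} {p' : M ⟶ Q'} (h : IsQuot I p)
    (h' : IsQuot I p') : Q ≅ Q' where
  hom := (h.2 _ p' (homKilledBy_of_target h'.1 _)).exists.choose
  inv := (h'.2 _ p (homKilledBy_of_target h.1 _)).exists.choose
  hom_inv_id := (h.2 Q p (homKilledBy_of_target h.1 _)).unique
    (((Category.assoc _ _ _).symm.trans (congrArg (· ≫ _) (h.2 _ p' (homKilledBy_of_target h'.1 _)).exists.choose_spec)).trans
      (h'.2 _ p (homKilledBy_of_target h.1 _)).exists.choose_spec) (Category.comp_id _)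
  inv_hom_id := (h'.2 Q' p' (homKilledBy_of_target h'.1 _)).unique
    (((Category.assoc _ _ _).symm.trans (congrArg (· ≫ _) (h'.2 _ p (homKilledBy_of_target h.1 _)).exists.choose_spec)).trans
      (h.2 _ p' (homKilledBy_of_target h'.1 _)).exists.choose_spec) (Category.comp_id _)

/-- The tower of quotients modulo the powers of an element. -/
lemma exists_tower (a : A) (G : C) :
    ∃ (Q : ℕᵒᵖ ⥤ C) (p : (Functor.const ℕᵒᵖ).obj G ⟶ Q),
      ∀ n : ℕ, IsQuot (Ideal.span {a} ^ (n + 1)) (p.app (op n)) := by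
  have hq : ∀ n : ℕ, IsQuot (Ideal.span {a} ^ (n + 1)) (cokernel.π (a ^ (n + 1) • 𝟙 G)) := fun n => by
    rw [Ideal.span_singleton_pow]
    exact isQuot_cokernel_smul _ _
  have hd : ∀ {m n : ℕ} (_ : n ≤ m), (a ^ (m + 1) • 𝟙 G) ≫ cokernel.π (a ^ (n + 1) • 𝟙 G) = 0 := fun {m n} h => by
    have e : a ^ (m + 1) = a ^ (m - n) * a ^ (n + 1) := by rw [← pow_add]; congr 1; omega
    rw [e, mul_smul, Linear.smul_comp, cokernel.condition, smul_zero]
  refine ⟨{ obj := fun j => cokernel (a ^ (j.unop + 1) • 𝟙 G)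
            map := fun {i j} f => cokernel.desc _ (cokernel.π _) (hd (leOfHom f.unop))
            map_id := fun j => by simp [← cancel_epi (cokernel.π _)]
            map_comp := fun f g => by simp [← cancel_epi (cokernel.π _)] },
    { app := fun j => cokernel.π (a ^ (j.unop + 1) • 𝟙 G)
      naturality := fun i j f => by simp }, hq⟩

/-- The extension property of cokernels of multiplication. -/
lemma prop_cokernel_smul_X₂ {P : ObjectProperty C} [WSerre.IsWeakSerre P] {S : ShortComplex C}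
    (hS : S.ShortExact) (b : A) (h₀ : P (kernel (b • 𝟙 S.X₃))) (h₁ : P (cokernel (b • 𝟙 S.X₁)))
    (h₃ : P (cokernel (b • 𝟙 S.X₃))) : P (cokernel (b • 𝟙 S.X₂)) := by
  let v : S ⟶ S :=
    { τ₁ := b • 𝟙 S.X₁
      τ₂ := b • 𝟙 S.X₂
      τ₃ := b • 𝟙 S.X₃
      comm₁₂ := by rw [Linear.smul_comp, Linear.comp_smul, Category.id_comp, Category.comp_id]
      comm₂₃ := by rw [Linear.smul_comp, Linear.comp_smul, Category.id_comp, Category.comp_id] }
  let T : ShortComplex.SnakeInput C :=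
    { L₀ := kernel v
      L₁ := S
      L₂ := S
      L₃ := cokernel v
      v₀₁ := kernel.ι v
      v₁₂ := v
      v₂₃ := cokernel.π v
      w₀₂ := kernel.condition v
      w₁₃ := cokernel.condition v
      h₀ := kernelIsKernel v
      h₃ := cokernelIsCokernel v
      L₁_exact := hS.exact
      epi_L₁_g := hS.epi_g
      L₂_exact := hS.exact
      mono_L₂_f := hS.mono_f }
  let k₀ : T.L₀.X₃ ≅ kernel (b • 𝟙 S.X₃) := PreservesKernel.iso (ShortComplex.π₃ : ShortComplex C ⥤ C) v
  let c₁ : T.L₃.X₁ ≅ cokernel (b • 𝟙 S.X₁) := PreservesCokernel.iso (ShortComplex.π₁ : ShortComplex C ⥤ C) v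
  let c₂ : T.L₃.X₂ ≅ cokernel (b • 𝟙 S.X₂) := PreservesCokernel.iso (ShortComplex.π₂ : ShortComplex C ⥤ C) v
  let c₃ : T.L₃.X₃ ≅ cokernel (b • 𝟙 S.X₃) := PreservesCokernel.iso (ShortComplex.π₃ : ShortComplex C ⥤ C) v
  have hm : Mono (cokernel.desc T.δ T.L₃.f T.δ_L₃_f) := T.L₂'_exact.mono_cokernelDesc
  let S' : ShortComplex C := ShortComplex.mk (cokernel.desc T.δ T.L₃.f T.δ_L₃_f) T.L₃.g (by
    rw [← cancel_epi (cokernel.π T.δ), cokernel.π_desc_assoc, T.L₃.zero, comp_zero])
  have : Epi T.L₂.g := hS.epi_g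
  have hS' : S'.ShortExact :=
    { exact := by
        let φ : T.L₃ ⟶ S' := { τ₁ := cokernel.π T.δ, τ₂ := 𝟙 _, τ₃ := 𝟙 _, comm₁₂ := by simp [S'] }
        exact (ShortComplex.exact_iff_of_epi_of_isIso_of_mono φ).1 T.L₃_exact
      mono_f := hm
      epi_g := T.epi_L₃_g }
  have h₁' : P S'.X₁ := P.prop_cokernel T.δ (P.prop_of_iso k₀.symm h₀) (P.prop_of_iso c₁.symm h₁)
  have h₃' : P S'.X₃ := P.prop_of_iso c₃.symm h₃
  have key : P S'.X₂ := P.prop_X₂_of_shortExact hS' h₁' h₃'
  exact P.prop_of_iso c₂ key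

end General

section Modules

variable {A : Type w} [CommRing A] (a : A)

/-- Nothing nonzero is infinitely divisible by `a`. -/
def Sep (M : Type*) [AddCommGroup M] [Module A M] : Prop :=
  ∀ x : M, (∀ n : ℕ, ∃ z : M, a ^ n • z = x) → x = 0

/-- Every compatible family modulo the powers of `a` has a limit. -/
def Compl (M : Type*) [AddCommGroup M] [Module A M] : Prop :=
  ∀ x : ℕ → M, (∀ n, ∃ z, a ^ (n + 1) • z = x (n + 1) - x n) → ∃ y : M, ∀ n, ∃ z, a ^ (n + 1) • z = y - x n

variable {F G H : Type*} [AddCommGroup F] [Module A F] [AddCommGroup G] [Module A G] [AddCommGroup H] [Module A H]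
  (f : F →ₗ[A] G) (g : G →ₗ[A] H) (hf : Function.Injective f) (hg : Function.Surjective g)
  (hfg : ∀ x, g x = 0 ↔ ∃ y, f y = x) {c : ℕ} (hc : ∀ (m : ℕ) (x : H), a ^ m • x = 0 → a ^ c • x = 0)
  (hF : Sep a F ∧ Compl a F) (hH : Sep a H ∧ Compl a H)

include hf hfg hc in
theorem exists_div_of_map {n : ℕ} {x : F} {z : G} (h : a ^ (c + n) • z = f x) : ∃ y, a ^ n • y = x := by
  have h1 : a ^ (c + n) • g z = 0 := by rw [← map_smul, h]; exact (hfg _).2 ⟨x, rfl⟩
  obtain ⟨y, hy⟩ := (hfg (a ^ c • z)).1 (by rw [map_smul]; exact hc _ _ h1)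
  exact ⟨y, hf (by rw [map_smul, hy, ← mul_smul, ← pow_add, add_comm, h])⟩

include hf hfg hc hF hH in
theorem sep_extension : Sep a G := fun x hx => by
  obtain ⟨y, rfl⟩ := (hfg x).1 (hH.1 _ fun n => by
    obtain ⟨z, hz⟩ := hx n
    exact ⟨g z, by rw [← map_smul, hz]⟩)
  rw [hF.1 y fun n => by
    obtain ⟨z, hz⟩ := hx (c + n)
    exact exists_div_of_map a f g hf hfg hc hz, map_zero]

include hf hg hfg hc hF hH in
theorem compl_extension : Compl a G := fun x hx => by
  obtain ⟨h, hh⟩ := hH.2 (fun n => g (x n)) fun n => by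
    obtain ⟨z, hz⟩ := hx n
    exact ⟨g z, by rw [← map_smul, hz, map_sub]⟩
  obtain ⟨y₀, rfl⟩ := hg h
  have key : ∀ n, ∃ (z : G) (u : F), x n - y₀ = a ^ (n + 1) • z + f u := fun n => by
    obtain ⟨w, hw⟩ := hh n
    obtain ⟨w', rfl⟩ := hg w
    obtain ⟨u, hu⟩ := (hfg (x n - y₀ + a ^ (n + 1) • w')).1 (by rw [map_add, map_sub, map_smul, hw]; abel)
    exact ⟨-w', u, by rw [smul_neg, hu]; abel⟩
  choose z u hzu using key
  obtain ⟨v, hv⟩ := hF.2 (fun n => u (c + n)) fun n => by
    obtain ⟨d, hd⟩ := hx (c + n)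
    refine exists_div_of_map a f g hf hfg hc (z := d - a • z (c + n + 1) + z (c + n)) ?_
    have e1 : f (u (c + (n + 1))) = x (c + n + 1) - y₀ - a ^ (c + n + 1 + 1) • z (c + n + 1) := by
      rw [← Nat.add_assoc, hzu]; abel
    have e2 : f (u (c + n)) = x (c + n) - y₀ - a ^ (c + n + 1) • z (c + n) := by rw [hzu]; abel
    rw [map_sub, e1, e2, ← Nat.add_assoc, smul_add, smul_sub, hd, ← mul_smul, ← pow_succ]
    abel
  refine ⟨y₀ + f v, fun n => ?_⟩
  obtain ⟨w, hw⟩ := hv n
  have hsum : ∀ k, ∃ e, a ^ (n + 1) • e = x (n + k) - x n := by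
    intro k
    induction k with
    | zero => exact ⟨0, by simp⟩
    | succ k ih =>
      obtain ⟨e, he⟩ := ih
      obtain ⟨d, hd⟩ := hx (n + k)
      refine ⟨e + a ^ k • d, ?_⟩
      rw [smul_add, he, ← mul_smul, ← pow_add, show n + 1 + k = n + k + 1 by omega, hd, ← Nat.add_assoc]
      abel
  obtain ⟨e, he⟩ := hsum c
  refine ⟨f w - a ^ c • z (c + n) + e, ?_⟩
  have e2 : f (u (c + n)) = x (c + n) - y₀ - a ^ (c + n + 1) • z (c + n) := by rw [hzu]; abel
  rw [smul_add, smul_sub, he, ← map_smul, hw, map_sub, e2, ← mul_smul, ← pow_add,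
    show n + 1 + c = c + n + 1 by omega, add_comm n c]
  abel

end Modules

end Groth.Agent.EtModW45
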