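import Groth.Agent.EtModW45.WeakSerre
import Groth.Agent.Mod48.ProEtWC
import Groth.Agent.AR46.Ideal

/-!
Sections over weakly contractible objects commute with quotients modulo a finitely generated ideal.
-/

set_option autoImplicit false
set_option backward.isDefEq.respectTransparency.types false
universe u

open CategoryTheory CategoryTheory.Limits AlgebraicGeometry Opposite ARSys Groth.Agent.AR46

namespace Groth.Agent.EtModW45

attribute [local instance] Abelian.hasFiniteBiproducts

variable {Λ : Type (u + 1)} [CommRing Λ] {X : Scheme.{u}}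

/-- Epimorphisms of module sheaves are surjective on weakly contractible objects. -/
theorem surjective_of_epi_mod {F G : EtModW.ModP Λ X} (φ : F ⟶ G) [Epi φ] {W : X.ProEt} (hW : ProEtS.IsWC W) :
    Function.Surjective (φ.hom.app (op W)).hom := by
  have h : Sheaf.IsLocallySurjective φ :=
    (Sheaf.isLocallySurjective_iff_epi' (ModuleCat.{u + 1} Λ) φ).2 inferInstance
  have h' : Sheaf.IsLocallySurjective ((ugP Λ X).map φ) := ⟨fun s => h.imageSieve_mem s⟩
  have : Epi ((ugP Λ X).map φ) := (Sheaf.isLocallySurjective_iff_epi' AddCommGrpCat.{u + 1} _).1 h'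
  exact Mod48.ProLim.surjective_of_epi ((ugP Λ X).map φ) hW

/-- Sections over a weakly contractible object commute with reduction modulo an ideal. -/
theorem sections_isQuot {I : Ideal Λ} (hI : I.FG) {F Q : EtModW.ModP Λ X} {p : F ⟶ Q} (hp : IsQuot I p)
    {U : X.ProEt} (hU : ProEtS.IsWC U) :
    Function.Surjective (p.hom.app (op U)).hom ∧
      LinearMap.ker (p.hom.app (op U)).hom = I • (⊤ : Submodule Λ (F.obj.obj (op U))) := by
  have := isQuot_epi hp
  refine ⟨surjective_of_epi_mod p hU, le_antisymm (fun x hx => ?_) (Submodule.smul_le.2 fun a ha m _ => ?_)⟩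
  · obtain ⟨k, g, hg⟩ := Submodule.fg_iff_exists_fin_generating_family.1 hI
    let ev := sheafToPresheaf (Scheme.ProEt.topology X) (ModuleCat.{u + 1} Λ) ⋙
      (evaluation X.ProEtᵒᵖ (ModuleCat.{u + 1} Λ)).obj (op U)
    let d : (⨁ fun _ : Fin k => F) ⟶ F := ∑ i, g i • biproduct.π (fun _ : Fin k => F) i
    have hgI : ∀ i, g i ∈ I := fun i => hg ▸ Ideal.subset_span ⟨i, rfl⟩
    have hd : d ≫ p = 0 := by
      simp only [d, Preadditive.sum_comp, Linear.smul_comp]
      exact Finset.sum_eq_zero fun i _ => homKilledBy_of_target hp.1 (biproduct.π (fun _ : Fin k => F) i ≫ p) _ (hgI i)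
    have hcoker : ∀ (W : EtModW.ModP Λ X) (ψ : F ⟶ W), d ≫ ψ = 0 → HomKilledBy I ψ := by
      intro W ψ hψ a ha
      rw [← hg] at ha
      induction ha using Submodule.span_induction with
      | mem a ha =>
        obtain ⟨i, rfl⟩ := ha
        have h := biproduct.ι (fun _ : Fin k => F) i ≫= hψ
        simp only [d, Preadditive.sum_comp, Preadditive.comp_sum, Linear.smul_comp, Linear.comp_smul,
          comp_zero] at h
        rw [Finset.sum_eq_single i] at h
        · rwa [biproduct.ι_π_self_assoc] at h
        · intro j _ hji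
          rw [biproduct.ι_π_ne_assoc _ (Ne.symm hji), zero_comp, smul_zero]
        · exact fun h => absurd (Finset.mem_univ i) h
      | zero => simp
      | add b c _ _ hb hc => rw [add_smul, hb, hc, add_zero]
      | smul r b _ hb => rw [smul_eq_mul, mul_smul, hb, smul_zero]
    let S : ShortComplex (EtModW.ModP Λ X) := ShortComplex.mk d p hd
    have hS : S.Exact := S.exact_of_g_is_cokernel (CokernelCofork.IsColimit.ofπ' p hd fun {W} ψ hψ =>
      ⟨(hp.2 _ ψ (hcoker _ ψ hψ)).exists.choose, (hp.2 _ ψ (hcoker _ ψ hψ)).exists.choose_spec⟩)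
    have : Epi (kernel.lift p d hd) := (S.exact_iff_epi_kernel_lift).1 hS
    have hev : PreservesFiniteLimits ev := comp_preservesFiniteLimits _ _
    obtain ⟨x', hx'⟩ : ∃ x', (ev.map (kernel.ι p)).hom x' = x := by
      let e := PreservesKernel.iso ev p ≪≫ ModuleCat.kernelIsoKer (ev.map p)
      refine ⟨e.inv ⟨x, hx⟩, ?_⟩
      have h1 : e.inv ≫ ev.map (kernel.ι p) = ModuleCat.ofHom (LinearMap.ker (ev.map p).hom).subtype := by
        rw [Iso.inv_comp_eq, Iso.trans_hom, Category.assoc, ModuleCat.kernelIsoKer_hom_ker_subtype,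
          PreservesKernel.iso_hom, kernelComparison_comp_ι]
      exact ConcreteCategory.congr_hom h1 ⟨x, hx⟩
    obtain ⟨y, hy⟩ := surjective_of_epi_mod (kernel.lift p d hd) hU x'
    have hxy : x = ∑ i, g i • (ev.map (biproduct.π (fun _ : Fin k => F) i)).hom y := by
      have h1 : (ev.map d).hom y = x := by
        rw [← kernel.lift_ι p d hd, ev.map_comp]
        exact (congrArg (ev.map (kernel.ι p)).hom hy).trans hx'
      rw [← h1]
      simp only [d, Functor.map_sum, ModuleCat.hom_sum, LinearMap.coe_sum, Finset.sum_apply]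
      rfl
    rw [hxy]
    exact Submodule.sum_mem _ fun i _ => Submodule.smul_mem_smul (hgI i) trivial
  · rw [LinearMap.mem_ker, map_smul]
    exact ConcreteCategory.congr_hom (congrArg (fun q : Q ⟶ Q => q.hom.app (op U)) (hp.1 a ha))
      ((p.hom.app (op U)).hom m)

end Groth.Agent.EtModW45
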